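import Groth.Agent.CycLib28.PB.Ops.LocFree
import Groth.Agent.Coherent.TensorBasis
import Groth.Agent.Coherent.TensorQcoh
import Groth.Agent.Coherent.CohBC.HomSheaf
import Groth.Agent.VarietyLib.TensorExact
import Groth.Agent.DCat.PullTensor

/-!
# Tensor products of finite locally free modules
-/

set_option autoImplicit false
set_option linter.unusedSectionVars false
set_option linter.style.haveILetI false
set_option backward.isDefEq.respectTransparency.types false

universe u

open AlgebraicGeometry CategoryTheory CategoryTheory.Limits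
open Groth.Agent.KRRPBLib Groth.Agent.Coherent Groth.Agent.PicLib Groth.Agent.CycLim28 Groth.Agent.AmpleLib

namespace Groth.Agent.CycLib28.PB.Ops

variable {X : Scheme.{u}}

/-- The tensor product of locally free modules of ranks `r`, `s` has rank `r * s`. -/
theorem isFinLocFreeOfRank_tensor {r s : ℕ} {E F : X.Modules} (hE : FlatMod.IsFinLocFreeOfRank r E)
    (hF : FlatMod.IsFinLocFreeOfRank s F) : FlatMod.IsFinLocFreeOfRank (r * s) (CohB1.tensorMod E F) := by
  classical
  haveI := isQCoh_of_rank hE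
  haveI := isQCoh_of_rank hF
  haveI := isQCoh_tensorMod E F
  intro x
  obtain ⟨U, n, e, hxU, hb⟩ := PicLib.exists_isBasisOn
    (fun y => let ⟨V, hy, h⟩ := hE y; ⟨V, r, hy, h⟩ : FlatMod.IsFinLocFree E) x
  obtain ⟨VE, hxE, ⟨eE⟩⟩ := hE x
  obtain ⟨VF, hxF, ⟨eF⟩⟩ := hF x
  obtain ⟨W, hW, hxW, hWle⟩ := TopologicalSpace.Opens.isBasis_iff_nbhd.1 X.isBasis_affineOpens
    (show x ∈ U ⊓ VE ⊓ VF from ⟨⟨hxU, hxE⟩, hxF⟩)
  have hWU : W ≤ U := hWle.trans (inf_le_left.trans inf_le_left)
  obtain ⟨bE⟩ := Props12.exists_basis_sections eE (hWle.trans (inf_le_left.trans inf_le_right))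
  obtain ⟨bF⟩ := Props12.exists_basis_sections eF (hWle.trans inf_le_right)
  haveI : Nonempty (W : Set X) := ⟨⟨x, hxW⟩⟩
  haveI : Nonempty (Scheme.Opens.toScheme (W : X.Opens)) := ⟨⟨x, hxW⟩⟩
  let bn := (Module.Basis.ofEquivFun (LinearEquiv.ofBijective
    (Fintype.linearCombination Γ(X, W) fun i => resM E hWU (e i)) (by
      convert hb hWU using 1
      funext c
      rw [Fintype.linearCombination_apply])).symm)
  have hn : n = r := by
    have h1 := bn.indexEquiv bE
    simpa using Fintype.card_congr h1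
  subst hn
  let f : (ULift.{u} (Fin n) → Γ(F, W)) →ₗ[Γ(X, W)] Γ(CohB1.tensorMod E F, W) :=
    { toFun := fun m => ∑ i, tmul (resM E hWU (e i)) (m i)
      map_add' := fun a b => by simp only [Pi.add_apply, tmul_add_right, Finset.sum_add_distrib]
      map_smul' := fun c a => by simp only [Pi.smul_apply, tmul_smul_right, Finset.smul_sum, RingHom.id_apply] }
  have hf : Function.Bijective f := bijective_sum_tmul hb F W hWU
  let b := (Pi.basis fun _ : ULift.{u} (Fin n) => bF).map (LinearEquiv.ofBijective f hf)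
  exact ⟨W, hxW, nonempty_restrict_iso_of_basis hW (b.reindex (Fintype.equivFinOfCardEq (by simp)))⟩

/-- Tensoring a short exact sequence with a locally free module. -/
theorem exists_shortExact_tensor {A B C F : X.Modules} {a : A ⟶ B} {b : B ⟶ C} {hab : a ≫ b = 0}
    (h : (ShortComplex.mk a b hab).ShortExact) {s : ℕ} (hF : FlatMod.IsFinLocFreeOfRank s F) :
    ∃ (a' : CohB1.tensorMod A F ⟶ CohB1.tensorMod B F) (b' : CohB1.tensorMod B F ⟶ CohB1.tensorMod C F)
      (hab' : a' ≫ b' = 0), (ShortComplex.mk a' b' hab').ShortExact := by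
  obtain ⟨T, hT, h1, h2, h3⟩ := VarietyLib.exists_tensorSeq h F (VarietyLib.flat_stalk_of_rank hF)
  cases T with
  | mk f g hfg =>
    dsimp only at h1 h2 h3
    subst h1 h2 h3
    exact ⟨f, g, hfg, hT⟩

end Groth.Agent.CycLib28.PB.Ops
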