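import Groth.Agent.CycLib28.PB.Ops.TwAlg
import Groth.Agent.CycLib28.PB.Ops.TensorFree

/-!
# Chern classes of tensor products
-/

set_option autoImplicit false
set_option linter.unusedSectionVars false
set_option linter.style.haveILetI false
set_option backward.isDefEq.respectTransparency.types false

universe u

open AlgebraicGeometry CategoryTheory CategoryTheory.Limits
open Groth.Agent.KRRPBLib Groth.Agent.Coherent Groth.Agent.PicLib Groth.Agent.CycLim28

namespace Groth.Agent.CycLib28.PB.Ops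

variable {X : Scheme.{u}} {δ : X → ℤ}

theorem rank_tensor_line {r : ℕ} {E L : X.Modules} (hE : FlatMod.IsFinLocFreeOfRank r E) (hL : PicF.IsInvertible L) :
    FlatMod.IsFinLocFreeOfRank r (CohB1.tensorMod E L) := by
  simpa using isFinLocFreeOfRank_tensor hE (PicLib.isFinLocFreeOfRank_one hL)

theorem coeff_mul_one {R : Type*} [Semiring R] (f g : Polynomial R) :
    (f * g).coeff 1 = f.coeff 0 * g.coeff 1 + f.coeff 1 * g.coeff 0 := by
  rw [Polynomial.coeff_mul, Finset.Nat.sum_antidiagonal_eq_sum_range_succ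
    (fun i j => f.coeff i * g.coeff j), Finset.sum_range_succ, Finset.sum_range_one]

theorem coeff_line_one {R : Type*} [Ring R] (a : R) : (1 + Polynomial.C a * Polynomial.X).coeff 1 = a := by
  simp [Polynomial.coeff_one]

theorem coeff_cPoly_zero (hX : Cyc.IsSetup X δ) {r : ℕ} {E : X.Modules} (hE : FlatMod.IsFinLocFreeOfRank r E) :
    (cPoly δ E r).coeff 0 = 1 := by
  rw [show (0 : ℕ) = ((0 : Fin (r + 1)) : ℕ) from rfl, coeff_cPoly, chern_zero hX hE]

/-- Induction on the rank through the projective bundle. -/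
theorem step {r : ℕ} (hX : Cyc.IsSetup X δ) {E : X.Modules} (hE : FlatMod.IsFinLocFreeOfRank (r + 1) E) :
    ∃ (P : Scheme.{u}) (p : P ⟶ X) (δP : P → ℤ) (K L : P.Modules) (c : K ⟶ (Scheme.Modules.pullback p).obj E)
      (b : (Scheme.Modules.pullback p).obj E ⟶ L) (h : c ≫ b = 0),
      Cyc.IsSetup P δP ∧ Flat p ∧ LocallyOfFiniteType p ∧ Cyc.HasRelDim p r ∧ Cyc.DeltaCompat p δP δ ∧
      Function.Injective (pull p δP δ (r : ℤ)) ∧ FlatMod.IsFinLocFreeOfRank r K ∧ PicF.IsInvertible L ∧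
      (ShortComplex.mk c b h).ShortExact := by
  haveI := hX.1
  haveI := isQCoh_of_rank hE
  obtain ⟨P, p, O1, q, δP, hP, hp, hPs, hδ⟩ := exists_projBundle_setup hX hE
  haveI := hPs.1
  haveI := hP.epi
  have hinv := isInvertible_of_rankOne hP.invertible
  exact ⟨P, p, δP, kernel q, O1, kernel.ι q, q, kernel.condition q, hPs, flat_of_isProjBundle hE hP, inferInstance,
    hasRelDim_bundle hE hP hPs.2.2 hδ, hδ, pull_injective hX hE hP hPs hδ,
    isFinLocFreeOfRank_kernel_line (Groth.Agent.VarietyLib.isFinLocFreeOfRank_pullback p hE) hinv q, hinv,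
    H8Lim.shortExact_kernel q⟩

open Polynomial in
/-- `c(E ⊗ L)`. -/
theorem cPoly_tensor_line : ∀ (r : ℕ) {X : Scheme.{u}} {δ : X → ℤ}, Cyc.IsSetup X δ → ∀ {E L : X.Modules},
    FlatMod.IsFinLocFreeOfRank r E → PicF.IsInvertible L →
      cPoly δ (CohB1.tensorMod E L) r = tw r (c1 δ L) (cPoly δ E r)
  | 0, X, δ, hX, E, L, hE, hL => by
    rw [cPoly_rank_zero hX hE, cPoly_rank_zero hX (rank_tensor_line hE hL), tw_zero_one]
  | r + 1, X, δ, hX, E, L, hE, hL => by
    haveI := hX.1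
    obtain ⟨P, p, δP, K, M, c, b, hcb, hPs, hflat, hlft, hrd, hδ, hinj, hK, hM, hex⟩ := step hX hE
    haveI := hPs.1
    have hL' := PicLoc.isInvertible_pullback p hL
    have hE' := Groth.Agent.VarietyLib.isFinLocFreeOfRank_pullback p hE
    have hT := rank_tensor_line hE hL
    have hT' := Groth.Agent.VarietyLib.isFinLocFreeOfRank_pullback p hT
    have hM1 := PicLib.isFinLocFreeOfRank_one hM
    have hML := AmpleLib.isInvertible_tensorMod hM hL'
    obtain ⟨c', b', hcb', hex'⟩ := exists_shortExact_tensor hex (PicLib.isFinLocFreeOfRank_one hL')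
    have e1 := whitney r hPs (n := r + 1) (c := 1) rfl hK hE' hM1 hex
    have e2 := whitney r hPs (n := r + 1) (c := 1) rfl (rank_tensor_line hK hL') (rank_tensor_line hE' hL')
      (PicLib.isFinLocFreeOfRank_one hML) hex'
    rw [cPoly_line hPs hM hM1] at e1
    rw [cPoly_line hPs hML (PicLib.isFinLocFreeOfRank_one hML), cPoly_tensor_line r hPs hK hL',
      c1_tensor hPs.2.2 hM hL', ← tw_mul_line (fun i hi => coeff_cPoly_of_lt K hi) (c1_comm hPs.2.2 hM hL'), ← e1,
      ← cPoly_iso hPs (rank_tensor_line hE' hL') hT' (DCat.PullTensor.pullTensorIso p E L)] at e2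
    refine Inter.eq hinj ?_ ((inter_cPoly p hPs hX r hrd hδ hE).tw
      (pull_c1 p hPs.2.2 hX.2.2 (delta_of_hasRelDim p hrd hδ) hL) (r + 1))
    rw [← e2]
    exact inter_cPoly p hPs hX r hrd hδ hT

open Polynomial in
theorem coeff_one_tensor_line {r : ℕ} (hX : Cyc.IsSetup X δ) {E L : X.Modules}
    (hE : FlatMod.IsFinLocFreeOfRank r E) (hL : PicF.IsInvertible L) :
    (cPoly δ (CohB1.tensorMod E L) r).coeff 1 = (cPoly δ E r).coeff 1 + r • c1 δ L := by
  rw [cPoly_tensor_line r hX hE hL, coeff_tw_of_le _ (fun i hi => coeff_cPoly_of_lt E hi), Finset.sum_range_succ,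
    Finset.sum_range_one, coeff_cPoly_zero hX hE]
  simp only [Nat.sub_zero, Nat.choose_one_right, pow_one, one_mul, Nat.sub_self, Nat.choose_zero_right, pow_zero,
    mul_one, one_smul]
  abel

open Polynomial in
/-- `c₁(E ⊗ F)`. -/
theorem coeff_one_tensor : ∀ (r : ℕ) {X : Scheme.{u}} {δ : X → ℤ}, Cyc.IsSetup X δ → ∀ {s : ℕ} {E F : X.Modules},
    FlatMod.IsFinLocFreeOfRank r E → FlatMod.IsFinLocFreeOfRank s F →
      (cPoly δ (CohB1.tensorMod E F) (r * s)).coeff 1 = r • (cPoly δ F s).coeff 1 + s • (cPoly δ E r).coeff 1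
  | 0, X, δ, hX, s, E, F, hE, hF => by
    rw [coeff_cPoly_of_lt _ (by simp), coeff_cPoly_of_lt E (by simp)]
    simp
  | r + 1, X, δ, hX, s, E, F, hE, hF => by
    haveI := hX.1
    obtain ⟨P, p, δP, K, M, c, b, hcb, hPs, hflat, hlft, hrd, hδ, hinj, hK, hM, hex⟩ := step hX hE
    haveI := hPs.1
    have hE' := Groth.Agent.VarietyLib.isFinLocFreeOfRank_pullback p hE
    have hF' := Groth.Agent.VarietyLib.isFinLocFreeOfRank_pullback p hF
    have hT := isFinLocFreeOfRank_tensor hE hF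
    have hT' := Groth.Agent.VarietyLib.isFinLocFreeOfRank_pullback p hT
    have hM1 := PicLib.isFinLocFreeOfRank_one hM
    have hMF : FlatMod.IsFinLocFreeOfRank s (CohB1.tensorMod M ((Scheme.Modules.pullback p).obj F)) := by
      simpa using isFinLocFreeOfRank_tensor hM1 hF'
    obtain ⟨c', b', hcb', hex'⟩ := exists_shortExact_tensor hex hF'
    have e1 := congrArg (coeff · 1) (whitney r hPs (n := r + 1) (c := 1) rfl hK hE' hM1 hex)
    have e2 := congrArg (coeff · 1) (whitney (r * s) hPs (n := (r + 1) * s) (c := s) (by ring)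
      (isFinLocFreeOfRank_tensor hK hF') (isFinLocFreeOfRank_tensor hE' hF') hMF hex')
    rw [cPoly_iso hPs (rank_tensor_line hF' hM) hMF (AmpleLib.tensorComm M ((Scheme.Modules.pullback p).obj F)),
      ← cPoly_iso hPs (isFinLocFreeOfRank_tensor hE' hF') hT' (DCat.PullTensor.pullTensorIso p E F)] at e2
    rw [coeff_mul_one, coeff_cPoly_zero hPs hK, coeff_cPoly_zero hPs hM1, one_mul, mul_one, cPoly_line hPs hM hM1,
      coeff_line_one] at e1
    rw [coeff_mul_one, coeff_cPoly_zero hPs (isFinLocFreeOfRank_tensor hK hF'), one_mul,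
      coeff_cPoly_zero hPs (rank_tensor_line hF' hM), mul_one, coeff_one_tensor_line hPs hF' hM,
      coeff_one_tensor r hPs hK hF'] at e2
    have key : (cPoly δP ((Scheme.Modules.pullback p).obj (CohB1.tensorMod E F)) ((r + 1) * s)).coeff 1 =
        (r + 1) • (cPoly δP ((Scheme.Modules.pullback p).obj F) s).coeff 1 +
          s • (cPoly δP ((Scheme.Modules.pullback p).obj E) (r + 1)).coeff 1 := by
      rw [e2, e1]
      simp only [nsmul_eq_mul, Nat.cast_add, Nat.cast_one, add_mul, one_mul, mul_add]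
      abel
    refine DFunLike.ext _ _ fun x => hinj ?_
    show pull p δP δ r ((cPoly δ (CohB1.tensorMod E F) ((r + 1) * s)).coeff 1 x) =
      pull p δP δ r ((r + 1) • (cPoly δ F s).coeff 1 x + s • (cPoly δ E (r + 1)).coeff 1 x)
    rw [inter_cPoly p hPs hX r hrd hδ hT 1 x, map_add, map_nsmul, map_nsmul, inter_cPoly p hPs hX r hrd hδ hF 1 x,
      inter_cPoly p hPs hX r hrd hδ hE 1 x]
    exact DFunLike.congr_fun key _

end Groth.Agent.CycLib28.PB.Ops

namespace Groth.Agent.CycLib28.PB.Ops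

variable {X P : Scheme.{u}} {δ : X → ℤ} {δP : P → ℤ} {p : P ⟶ X} [IsProper p] {r : ℕ} {E : X.Modules}
  {O1 : P.Modules} {q : (Scheme.Modules.pullback p).obj E ⟶ O1}

/-- The coefficient of the Chern polynomial on the class of a cycle. -/
theorem coeff_cPoly_cls (hX : Cyc.IsSetup X δ) (hE : FlatMod.IsFinLocFreeOfRank r E)
    (hP : KRR.IsProjBundle p E O1 q) (hPs : Cyc.IsSetup P δP) (hδ : Cyc.DeltaCompat p δP δ) {k : ℤ}
    {α : AlgebraicCycle X ℤ} {γ : Fin (r + 1) → AlgebraicCycle X ℤ} (hα : α ∈ Cyc.Zk X δ k)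
    (hγ : Cyc.IsChernCap p δ δP O1 r k α γ) {n : ℕ} (hn : n < r + 1) :
    (cPoly δ E r).coeff n (cls δ k α) = cls δ (k - (n : ℤ)) (γ ⟨n, hn⟩) := by
  have h := coeff_cPoly (δ := δ) E r ⟨n, hn⟩
  rw [show (cPoly δ E r).coeff n = chern δ E r ⟨n, hn⟩ from h, chern_cls hX hE hP hPs hδ hα hγ]

theorem commute_c1_coeff (hX : Cyc.IsSetup X δ) (hE : FlatMod.IsFinLocFreeOfRank r E) {L : X.Modules}
    (hL : PicF.IsInvertible L) (n : ℕ) : Commute (c1 δ L) ((cPoly δ E r).coeff n) := by
  by_cases hn : n ≤ r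
  · have h := coeff_cPoly (δ := δ) E r ⟨n, Nat.lt_succ_of_le hn⟩
    rw [show (cPoly δ E r).coeff n = chern δ E r ⟨n, Nat.lt_succ_of_le hn⟩ from h]
    exact c1_chern_comm hX hL hE _
  · rw [coeff_cPoly_of_lt E (by omega)]
    exact Commute.zero_right _

end Groth.Agent.CycLib28.PB.Ops
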