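import Groth.Agent.CycLib28.PB.Ops.DualSeq
import Groth.Agent.CycLib28.PB.Ops.TensorCalc
import Groth.Agent.Coherent.CohBC.HomUnit

/-!
# Chern classes of the dual
-/

set_option autoImplicit false
set_option linter.unusedSectionVars false
set_option linter.style.haveILetI false
set_option backward.isDefEq.respectTransparency.types false

universe u

open AlgebraicGeometry CategoryTheory CategoryTheory.Limits
open Groth.Agent.KRRPBLib Groth.Agent.Coherent Groth.Agent.PicLib Groth.Agent.CycLim28

namespace Groth.Agent.CycLib28.PB.Ops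

variable {X : Scheme.{u}} {δ : X → ℤ}

theorem c1_dual [IsLocallyNoetherian X] (hδ : Cyc.IsDimFun X δ) {M : X.Modules} (hM : PicF.IsInvertible M) :
    c1 δ (dual M) = -c1 δ M := by
  have hM1 := PicLib.isFinLocFreeOfRank_one hM
  have hD : PicF.IsInvertible (dual M) := isInvertible_of_rankOne (isFinLocFreeOfRank_dual hM1)
  haveI := isIso_contract (E := dual M) (isFinLocFree_of_rank (isFinLocFreeOfRank_dual hM1)) M
  haveI := CohBC.isIso_scalar hM
  obtain ⟨dd⟩ := ExtSS.nonempty_dual_dual (isFinLocFree_of_rank hM1)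
  have i : CohB1.tensorMod (dual M) M ≅ Coh.structureModule X :=
    asIso (contractBilin (dual M) M).desc ≪≫ CohBC.internalHomSourceIso dd.symm M ≪≫
      (asIso (curry (CohBC.scalarBilin M))).symm
  have h := c1_iso hδ (AmpleLib.isInvertible_tensorMod hD hM) AmpleLib.isInvertible_structureModule i
  rw [c1_tensor hδ hD hM, c1_structureModule hδ] at h
  exact eq_neg_of_add_eq_zero_left h

set_option synthInstance.maxHeartbeats 400000 in
open Polynomial in
/-- `c_n(E^∨) = (-1)^n c_n(E)`. -/
theorem coeff_cPoly_dual : ∀ (r : ℕ) {X : Scheme.{u}} {δ : X → ℤ}, Cyc.IsSetup X δ → ∀ {E : X.Modules},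
    FlatMod.IsFinLocFreeOfRank r E → ∀ n : ℕ,
      (cPoly δ (dual E) r).coeff n = (-1 : ℤ) ^ n • (cPoly δ E r).coeff n
  | 0, X, δ, hX, E, hE, n => by
    rw [cPoly_rank_zero hX hE, cPoly_rank_zero hX (isFinLocFreeOfRank_dual hE), coeff_one]
    rcases n with _ | n <;> simp
  | r + 1, X, δ, hX, E, hE, n => by
    haveI := hX.1
    obtain ⟨P, p, δP, K, M, c, b, hcb, hPs, hflat, hlft, hrd, hδ, hinj, hK, hM, hex⟩ := step hX hE
    haveI := hPs.1
    have hE' := Groth.Agent.VarietyLib.isFinLocFreeOfRank_pullback p hE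
    have hD := isFinLocFreeOfRank_dual hE
    have hM1 := PicLib.isFinLocFreeOfRank_one hM
    have hdM : PicF.IsInvertible (dual M) := isInvertible_of_rankOne (isFinLocFreeOfRank_dual hM1)
    obtain ⟨i⟩ := nonempty_pullback_dual p (isFinLocFree_of_rank hE)
    have eE := whitney r hPs (n := r + 1) (c := 1) rfl hK hE' hM1 hex
    have eD := whitney 1 hPs (n := r + 1) (c := r) (by ring) (isFinLocFreeOfRank_dual hM1)
      (isFinLocFreeOfRank_dual hE') (isFinLocFreeOfRank_dual hK) (shortExact_dual hex hK hM1)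
    rw [cPoly_line hPs hM hM1] at eE
    rw [cPoly_line hPs hdM (isFinLocFreeOfRank_dual hM1), c1_dual hPs.2.2 hM,
      ← cPoly_iso hPs (isFinLocFreeOfRank_dual hE') (Groth.Agent.VarietyLib.isFinLocFreeOfRank_pullback p hD) i] at eD
    have key : (cPoly δP ((Scheme.Modules.pullback p).obj (dual E)) (r + 1)).coeff n =
        (-1 : ℤ) ^ n • (cPoly δP ((Scheme.Modules.pullback p).obj E) (r + 1)).coeff n := by
      rw [eD, eE]
      rcases n with _ | n
      · rw [mul_coeff_zero, mul_coeff_zero, coeff_cPoly_zero hPs (isFinLocFreeOfRank_dual hK),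
          coeff_cPoly_zero hPs hK]
        simp
      · rw [add_mul, one_mul, coeff_add, mul_assoc, coeff_C_mul, coeff_X_mul, mul_add, mul_one, coeff_add, ← mul_assoc,
          coeff_mul_X, coeff_mul_C, coeff_cPoly_dual r hPs hK, coeff_cPoly_dual r hPs hK, neg_mul, mul_smul_comm,
          (commute_c1_coeff hPs hK hM n).eq]
        simp only [zsmul_eq_mul, pow_succ, Int.cast_mul, Int.cast_neg, Int.cast_one, mul_add]
        noncomm_ring
    refine DFunLike.ext _ _ fun x => hinj ?_
    show pull p δP δ r ((cPoly δ (dual E) (r + 1)).coeff n x) =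
      pull p δP δ r ((-1 : ℤ) ^ n • (cPoly δ E (r + 1)).coeff n x)
    rw [inter_cPoly p hPs hX r hrd hδ hD n x, map_zsmul, inter_cPoly p hPs hX r hrd hδ hE n x]
    exact DFunLike.congr_fun key _

end Groth.Agent.CycLib28.PB.Ops
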