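import Groth.Agent.CycLib28.PB.ChernFlat
import Groth.Agent.CycLib28.PB.ChernPush
import Groth.Prelude.Def_ChowOps
import Mathlib.Algebra.DirectSum.Basic

/-!
# The graded Chow group
-/

set_option autoImplicit false
set_option linter.unusedSectionVars false
set_option linter.style.haveILetI false
set_option backward.isDefEq.respectTransparency.types false

universe u

open AlgebraicGeometry CategoryTheory
open Groth.Agent.CycLim28

namespace Groth.Agent.CycLib28.PB.Ops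

variable {X Y : Scheme.{u}} {δ : X → ℤ} {δY : Y → ℤ}

/-- The total Chow group. -/
abbrev CHT (X : Scheme.{u}) (δ : X → ℤ) : Type u := DirectSum ℤ fun k => ChowOps.CH X δ k

theorem ratTriv_iff [IsLocallyNoetherian X] (hδ : Cyc.IsDimFun X δ) {k : ℤ} (a : ↥(ChowOps.zk X δ k)) :
    a ∈ ChowOps.ratTriv X δ k ↔ Cyc.RatEquivZero δ k (a : AlgebraicCycle X ℤ) := by
  refine ⟨fun h => ?_, fun h => AddSubgroup.subset_closure h⟩
  induction h using AddSubgroup.closure_induction with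
  | mem x hx => exact hx
  | zero => exact P1Inter.ratEquivZero_zero
  | add x y _ _ hx hy => exact ratEquivZero_add hx hy fun _ => rfl
  | neg x _ hx => exact ratEquivZero_neg hδ hx fun _ => rfl

theorem cl_eq_iff [IsLocallyNoetherian X] (hδ : Cyc.IsDimFun X δ) {k : ℤ} {a b : AlgebraicCycle X ℤ}
    (ha : a ∈ Cyc.Zk X δ k) (hb : b ∈ Cyc.Zk X δ k) :
    ChowOps.cl a ha = ChowOps.cl b hb ↔ Cyc.RatEquiv δ k a b := by
  simp only [ChowOps.cl, ChowOps.clHom, QuotientAddGroup.mk'_apply]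
  rw [QuotientAddGroup.eq, ratTriv_iff hδ]
  refine ⟨fun h => ratEquivZero_neg hδ h fun x => ?_, fun h => ratEquivZero_neg hδ h fun x => ?_⟩
  · show a x - b x = -(-a x + b x)
    ring
  · show -a x + b x = -(a x - b x)
    ring

open scoped Classical in
/-- The class of a cycle of dimension `k`. -/
noncomputable def cls (δ : X → ℤ) (k : ℤ) (α : AlgebraicCycle X ℤ) : CHT X δ :=
  if h : α ∈ Cyc.Zk X δ k then DirectSum.of (fun k => ChowOps.CH X δ k) k (ChowOps.cl α h) else 0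

theorem cls_eq {k : ℤ} {α : AlgebraicCycle X ℤ} (h : α ∈ Cyc.Zk X δ k) :
    cls δ k α = DirectSum.of (fun k => ChowOps.CH X δ k) k (ChowOps.cl α h) := dif_pos h

theorem cls_eq_iff [IsLocallyNoetherian X] (hδ : Cyc.IsDimFun X δ) {k : ℤ} {a b : AlgebraicCycle X ℤ}
    (ha : a ∈ Cyc.Zk X δ k) (hb : b ∈ Cyc.Zk X δ k) :
    cls δ k a = cls δ k b ↔ Cyc.RatEquiv δ k a b := by
  rw [cls_eq ha, cls_eq hb, (DirectSum.of_injective k).eq_iff, cl_eq_iff hδ ha hb]

theorem cls_congr [IsLocallyNoetherian X] (hδ : Cyc.IsDimFun X δ) {k : ℤ} {a b : AlgebraicCycle X ℤ}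
    (ha : a ∈ Cyc.Zk X δ k) (hb : b ∈ Cyc.Zk X δ k) (h : Cyc.RatEquiv δ k a b) : cls δ k a = cls δ k b :=
  (cls_eq_iff hδ ha hb).2 h

theorem cls_add {k : ℤ} {a b : AlgebraicCycle X ℤ} (ha : a ∈ Cyc.Zk X δ k) (hb : b ∈ Cyc.Zk X δ k) :
    cls δ k (a + b) = cls δ k a + cls δ k b := by
  rw [cls_eq ha, cls_eq hb, cls_eq ((ChowOps.zk X δ k).add_mem ha hb), ← map_add]
  rfl

@[simp] theorem cls_zero (k : ℤ) : cls δ k (0 : AlgebraicCycle X ℤ) = 0 := by
  rw [cls_eq ((ChowOps.zk X δ k).zero_mem)]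
  exact map_zero _

theorem cls_zsmul {k : ℤ} {a : AlgebraicCycle X ℤ} (ha : a ∈ Cyc.Zk X δ k) (e : ℤ) :
    cls δ k (e • a) = e • cls δ k a := by
  rw [cls_eq ha, cls_eq ((ChowOps.zk X δ k).zsmul_mem ha e), ← map_zsmul]
  rfl

theorem cls_sum {ι : Type*} (s : Finset ι) {k : ℤ} {a : ι → AlgebraicCycle X ℤ}
    (ha : ∀ i ∈ s, a i ∈ Cyc.Zk X δ k) : cls δ k (∑ i ∈ s, a i) = ∑ i ∈ s, cls δ k (a i) := by
  classical
  induction s using Finset.induction_on with
  | empty => simp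
  | insert i s hi ih =>
    have hs : ∀ j ∈ s, a j ∈ Cyc.Zk X δ k := fun j hj => ha j (Finset.mem_insert_of_mem hj)
    rw [Finset.sum_insert hi, Finset.sum_insert hi,
      cls_add (ha i (Finset.mem_insert_self i s)) ((ChowOps.zk X δ k).sum_mem hs), ih hs]

/-- Additive maps out of the total Chow group agree once they agree on classes of cycles. -/
theorem hom_ext {M : Type*} [AddCommMonoid M] {f g : CHT X δ →+ M}
    (h : ∀ (k : ℤ) (α : AlgebraicCycle X ℤ), α ∈ Cyc.Zk X δ k → f (cls δ k α) = g (cls δ k α)) : f = g := by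
  refine DirectSum.addHom_ext fun k c => ?_
  induction c using QuotientAddGroup.induction_on with
  | H a => simpa [cls_eq a.2, ChowOps.cl, ChowOps.clHom] using h k a.1 a.2

/-- Endomorphisms of the total Chow group agree once they agree on classes of cycles. -/
theorem end_ext {f g : AddMonoid.End (CHT X δ)}
    (h : ∀ (k : ℤ) (α : AlgebraicCycle X ℤ), α ∈ Cyc.Zk X δ k → f (cls δ k α) = g (cls δ k α)) : f = g :=
  hom_ext h

/-- An additive map defined on cycles by a relation descends to the total Chow groups. -/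
theorem exists_hom [IsLocallyNoetherian X] [IsLocallyNoetherian Y] (hδ : Cyc.IsDimFun X δ) (c : ℤ)
    (R : ℤ → AlgebraicCycle X ℤ → AlgebraicCycle Y ℤ → Prop)
    (htot : ∀ k α, α ∈ Cyc.Zk X δ k → ∃ β, R k α β)
    (hmem : ∀ k α β, α ∈ Cyc.Zk X δ k → R k α β → β ∈ Cyc.Zk Y δY (k + c))
    (hadd : ∀ k α α' β β', α ∈ Cyc.Zk X δ k → α' ∈ Cyc.Zk X δ k → R k α β → R k α' β' →
      ∃ β'', R k (α + α') β'' ∧ cls δY (k + c) β'' = cls δY (k + c) β + cls δY (k + c) β')
    (hwd : ∀ k α α' β β', α ∈ Cyc.Zk X δ k → α' ∈ Cyc.Zk X δ k → Cyc.RatEquiv δ k α α' → R k α β → R k α' β' →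
      cls δY (k + c) β = cls δY (k + c) β') :
    ∃ f : CHT X δ →+ CHT Y δY, ∀ k α β, α ∈ Cyc.Zk X δ k → R k α β → f (cls δ k α) = cls δY (k + c) β := by
  classical
  choose F hF using htot
  let g : ∀ k : ℤ, ↥(ChowOps.zk X δ k) →+ CHT Y δY := fun k =>
    AddMonoidHom.mk' (fun a => cls δY (k + c) (F k a.1 a.2)) fun a b => by
      obtain ⟨β, hβ, he⟩ := hadd k a.1 b.1 _ _ a.2 b.2 (hF k a.1 a.2) (hF k b.1 b.2)
      rw [← he]
      exact hwd k _ _ _ _ (a + b).2 (a + b).2 (ratEquiv_refl _) (hF k _ _) hβ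
  have hg : ∀ k, ChowOps.ratTriv X δ k ≤ (g k).ker := fun k a ha => by
    rw [AddMonoidHom.mem_ker]
    have h := (ratTriv_iff hδ a).1 ha
    have h0 : g k 0 = 0 := map_zero _
    refine Eq.trans ?_ h0
    exact hwd k _ _ _ _ a.2 (0 : ↥(ChowOps.zk X δ k)).2 (ratEquiv_zero_right h) (hF k _ _) (hF k _ _)
  refine ⟨DirectSum.toAddMonoid fun k => QuotientAddGroup.lift _ (g k) (hg k), fun k α β hα hβ => ?_⟩
  rw [cls_eq hα, DirectSum.toAddMonoid_of]
  exact hwd k α α _ β hα hα (ratEquiv_refl _) (hF k α hα) hβ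

end Groth.Agent.CycLib28.PB.Ops
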