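import Groth.Agent.CycLib28.PB.Ops.Defs
import Groth.Agent.CycLib28.PB.C1Triv
import Groth.Agent.CycLib28.C1Tensor

/-!
# Identities between first Chern classes and Chern classes
-/

set_option autoImplicit false
set_option linter.unusedSectionVars false
set_option linter.style.haveILetI false
set_option backward.isDefEq.respectTransparency.types false

universe u

open AlgebraicGeometry CategoryTheory CategoryTheory.Limits
open Groth.Agent.KRRPBLib Groth.Agent.Coherent Groth.Agent.PicLib Groth.Agent.CycLim28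

namespace Groth.Agent.CycLib28.PB.Ops

variable {X Y : Scheme.{u}} {δ : X → ℤ} {δY : Y → ℤ}

/-- Invertible modules have nonvanishing rational sections. -/
theorem exists_secs {L : X.Modules} (hL : PicF.IsInvertible L) :
    ∃ s : (ξ : X) → Cyc.secFibre L ξ, ∀ ξ, s ξ ≠ 0 := by
  choose U hU g hg using PicLib.exists_isGen hL
  refine ⟨fun ξ => Submodule.Quotient.mk ((1 : X.presheaf.stalk ξ) • L.presheaf.germ (U ξ) ξ (hU ξ) (g ξ)),
    fun ξ h => ?_⟩
  rw [mk_eq_zero_iff_gen (hg ξ), map_one] at h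
  exact one_ne_zero h

theorem c1Cap_mem {L : X.Modules} {k : ℤ} {α γ : AlgebraicCycle X ℤ} {s : (ξ : X) → Cyc.secFibre L ξ}
    (hα : α ∈ Cyc.Zk X δ k) (hγ : ⇑γ = Cyc.c1CapFun δ L ⇑α s) : γ ∈ Cyc.Zk X δ (k - 1) :=
  Intersect.c1CapFun_mem_Zk (m := k - 1) ⇑α (fun x hx => hα x (by omega)) s γ hγ

theorem c1_comm [IsLocallyNoetherian X] (hδ : Cyc.IsDimFun X δ) {L N : X.Modules} (hL : PicF.IsInvertible L)
    (hN : PicF.IsInvertible N) : Commute (c1 δ L) (c1 δ N) := by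
  refine end_ext fun k α hα => ?_
  obtain ⟨sL, hsL⟩ := exists_secs hL
  obtain ⟨sN, hsN⟩ := exists_secs hN
  obtain ⟨a, ha⟩ := exists_c1Cap_cycle hδ hN α sN hsN
  obtain ⟨b, hb⟩ := exists_c1Cap_cycle hδ hL α sL hsL
  obtain ⟨a', ha'⟩ := exists_c1Cap_cycle hδ hL a sL hsL
  obtain ⟨b', hb'⟩ := exists_c1Cap_cycle hδ hN b sN hsN
  show c1 δ L (c1 δ N (cls δ k α)) = c1 δ N (c1 δ L (cls δ k α))
  rw [c1_cls hδ hN hα hsN ha, c1_cls hδ hL (c1Cap_mem hα ha) hsL ha', c1_cls hδ hL hα hsL hb,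
    c1_cls hδ hN (c1Cap_mem hα hb) hsN hb']
  refine cls_congr hδ (c1Cap_mem (c1Cap_mem hα ha) ha') (c1Cap_mem (c1Cap_mem hα hb) hb') ?_
  exact c1Cap_comm hδ hL hN _ α (by rwa [show k - 1 - 1 + 2 = k by ring]) sL sL sN sN hsL hsL hsN hsN a' b'
    (by rw [ha', ha]) (by rw [hb', hb])

theorem c1_chern_comm (hX : Cyc.IsSetup X δ) {L : X.Modules} (hL : PicF.IsInvertible L) {r : ℕ} {E : X.Modules}
    (hE : FlatMod.IsFinLocFreeOfRank r E) (j : Fin (r + 1)) : Commute (c1 δ L) (chern δ E r j) := by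
  haveI := hX.1
  obtain ⟨P, p, O1, q, δP, hP, hp, hPs, hδ⟩ := exists_projBundle_setup hX hE
  refine end_ext fun k α hα => ?_
  obtain ⟨γ, hγ⟩ := exists_chernCap hX hE hP hPs hδ α hα
  obtain ⟨s, hs⟩ := exists_secs hL
  choose D hD using fun i => exists_c1Cap_cycle hX.2.2 hL (γ i) s hs
  have hcap := isChernCap_c1Cap hX hE hP hPs hδ hL hγ s hs D hD
  show c1 δ L (chern δ E r j (cls δ k α)) = chern δ E r j (c1 δ L (cls δ k α))
  rw [chern_cls hX hE hP hPs hδ hα hγ j, c1_cls hX.2.2 hL (hγ.2.1 j) hs (hD j),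
    c1_cls hX.2.2 hL hα hs (show ⇑(D 0) = _ by rw [hD, hγ.1]),
    chern_cls hX hE hP hPs hδ (c1Cap_mem hα (show ⇑(D 0) = _ by rw [hD, hγ.1])) hcap j,
    show k - ((j : ℕ) : ℤ) - 1 = k - 1 - ((j : ℕ) : ℤ) by ring]

theorem chern_comm (hX : Cyc.IsSetup X δ) {r s : ℕ} {E F : X.Modules} (hE : FlatMod.IsFinLocFreeOfRank r E)
    (hF : FlatMod.IsFinLocFreeOfRank s F) (i : Fin (r + 1)) (j : Fin (s + 1)) :
    Commute (chern δ E r i) (chern δ F s j) := by
  haveI := hX.1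
  obtain ⟨P, p, O1, q, δP, hP, hp, hPs, hδ⟩ := exists_projBundle_setup hX hE
  obtain ⟨Q, p', O1', q', δQ, hQ, hp', hQs, hδ'⟩ := exists_projBundle_setup hX hF
  refine end_ext fun k α hα => ?_
  obtain ⟨γ, hγ⟩ := exists_chernCap hX hE hP hPs hδ α hα
  obtain ⟨φ, hφ⟩ := exists_chernCap hX hF hQ hQs hδ' α hα
  obtain ⟨ε, hε⟩ := exists_chernCap hX hF hQ hQs hδ' (γ i) (hγ.2.1 i)
  obtain ⟨ψ, hψ⟩ := exists_chernCap hX hE hP hPs hδ (φ j) (hφ.2.1 j)
  show chern δ E r i (chern δ F s j (cls δ k α)) = chern δ F s j (chern δ E r i (cls δ k α))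
  rw [chern_cls hX hF hQ hQs hδ' hα hφ j, chern_cls hX hE hP hPs hδ (hφ.2.1 j) hψ i,
    chern_cls hX hE hP hPs hδ hα hγ i, chern_cls hX hF hQ hQs hδ' (hγ.2.1 i) hε j,
    show k - ((j : ℕ) : ℤ) - ((i : ℕ) : ℤ) = k - ((i : ℕ) : ℤ) - ((j : ℕ) : ℤ) by ring]
  refine (cls_congr hX.2.2 (hε.2.1 j) ?_ (chernCap_comm hX hE hP hPs hδ hF hQ hQs hδ' i j hγ hε hφ hψ)).symm
  convert hψ.2.1 i using 1
  ring_nf

theorem chern_iso (hX : Cyc.IsSetup X δ) {r : ℕ} {E E' : X.Modules} (hE : FlatMod.IsFinLocFreeOfRank r E)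
    (hE' : FlatMod.IsFinLocFreeOfRank r E') (e : E' ≅ E) (j : Fin (r + 1)) :
    chern δ E' r j = chern δ E r j := by
  obtain ⟨P, p, O1, q, δP, hP, hp, hPs, hδ⟩ := exists_projBundle_setup hX hE
  refine end_ext fun k α hα => ?_
  obtain ⟨γ, hγ⟩ := exists_chernCap hX hE hP hPs hδ α hα
  rw [chern_cls hX hE hP hPs hδ hα hγ j, chern_cls hX hE' (isProjBundle_of_iso e hP) hPs hδ hα hγ j]

theorem cPoly_iso (hX : Cyc.IsSetup X δ) {r : ℕ} {E E' : X.Modules} (hE : FlatMod.IsFinLocFreeOfRank r E)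
    (hE' : FlatMod.IsFinLocFreeOfRank r E') (e : E' ≅ E) : cPoly δ E' r = cPoly δ E r := by
  simp only [cPoly, chern_iso hX hE hE' e]

theorem chern_line (hX : Cyc.IsSetup X δ) {L : X.Modules} (hL : PicF.IsInvertible L)
    (hE : FlatMod.IsFinLocFreeOfRank 1 L) : chern δ L 1 1 = c1 δ L := by
  haveI := hX.1
  obtain ⟨P, p, O1, q, δP, hP, hp, hPs, hδ⟩ := exists_projBundle_setup hX hE
  refine end_ext fun k α hα => ?_
  obtain ⟨γ, hγ⟩ := exists_chernCap hX hE hP hPs hδ α hα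
  obtain ⟨s, hs⟩ := exists_secs hL
  obtain ⟨β, hβ⟩ := exists_c1Cap_cycle hX.2.2 hL α s hs
  rw [chern_cls hX hE hP hPs hδ hα hγ 1, c1_cls hX.2.2 hL hα hs hβ,
    show k - (((1 : Fin 2) : ℕ) : ℤ) = k - 1 by simp]
  exact cls_congr hX.2.2 (by simpa using hγ.2.1 1) (c1Cap_mem hα hβ)
    (chernCap_line hX hL hE hP hPs hδ hγ s hs hβ)

open Polynomial in
theorem cPoly_line (hX : Cyc.IsSetup X δ) {L : X.Modules} (hL : PicF.IsInvertible L)
    (hE : FlatMod.IsFinLocFreeOfRank 1 L) : cPoly δ L 1 = 1 + C (c1 δ L) * Polynomial.X := by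
  rw [cPoly, Fin.sum_univ_two, chern_zero hX hE, chern_line hX hL hE, C_mul_X_eq_monomial]
  simp

open Polynomial in
/-- The Chern polynomial of an extension by a line bundle. -/
theorem cPoly_sub (hX : Cyc.IsSetup X δ) {m : ℕ} {L E F : X.Modules} (hL : PicF.IsInvertible L)
    (hE : FlatMod.IsFinLocFreeOfRank (m + 1) E) (hF : FlatMod.IsFinLocFreeOfRank m F) {a : L ⟶ E} {b : E ⟶ F}
    {hab : a ≫ b = 0} (hex : (ShortComplex.mk a b hab).ShortExact) :
    cPoly δ E (m + 1) = (1 + C (c1 δ L) * Polynomial.X) * cPoly δ F m := by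
  haveI := hX.1
  haveI := isQCoh_of_rank hE
  obtain ⟨P, p, O1, q, δP, hP, hp, hPs, hδ⟩ := exists_projBundle_setup hX hE
  haveI := hPs.1
  obtain ⟨Q, p', O1', q', δQ, hQ, hp', hQs, hδ'⟩ := exists_projBundle_setup hX hF
  have key : ∀ j : Fin (m + 2), chern δ E (m + 1) j = (Fin.snoc (chern δ F m) 0 : Fin (m + 2) → _) j +
      (Fin.cons 0 (fun i => c1 δ L * chern δ F m i) : Fin (m + 2) → AddMonoid.End (CHT _ δ)) j := by
    intro j
    refine end_ext fun k α hα => ?_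
    obtain ⟨γ', hγ'⟩ := exists_chernCap hX hF hQ hQs hδ' α hα
    obtain ⟨s, hs⟩ := exists_secs hL
    choose ζ hζ using fun i => exists_c1Cap_cycle hX.2.2 hL (γ' i) s hs
    have hcap := isChernCap_sub (a := a) hX hE hP hPs hδ hL hF hQ hQs hδ' b hex hγ' s hs ζ hζ
    rw [chern_cls hX hE hP hPs hδ hα hcap j, Pi.add_apply]
    show _ = (Fin.snoc (chern δ F m) 0 : Fin (m + 2) → _) j (cls δ k α) + _
    rw [cls_add]
    · congr 1
      · induction j using Fin.lastCases with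
        | last => rw [Fin.snoc_last, Fin.snoc_last]; simp
        | cast i => rw [Fin.snoc_castSucc, Fin.snoc_castSucc, chern_cls hX hF hQ hQs hδ' hα hγ' i, Fin.val_castSucc]
      · induction j using Fin.cases with
        | zero => rw [Fin.cons_zero, Fin.cons_zero]; simp; rfl
        | succ i =>
          rw [Fin.cons_succ, Fin.cons_succ]
          show _ = c1 δ L (chern δ F m i (cls δ k α))
          rw [chern_cls hX hF hQ hQs hδ' hα hγ' i, c1_cls hX.2.2 hL (hγ'.2.1 i) hs (hζ i), Fin.val_succ]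
          push_cast
          ring_nf
    · induction j using Fin.lastCases with
      | last => rw [Fin.snoc_last]; exact fun x _ => rfl
      | cast i => rw [Fin.snoc_castSucc, Fin.val_castSucc]; exact hγ'.2.1 i
    · induction j using Fin.cases with
      | zero => rw [Fin.cons_zero]; exact fun x _ => rfl
      | succ i =>
        rw [Fin.cons_succ, Fin.val_succ]
        have h := c1Cap_mem (hγ'.2.1 i) (hζ i)
        push_cast
        rwa [← sub_sub]
  ext n : 1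
  rw [add_mul, one_mul, mul_assoc, coeff_add, coeff_C_mul]
  rcases n with _ | n
  · have h := key 0
    rw [show (0 : Fin (m + 2)) = Fin.castSucc 0 from rfl, Fin.snoc_castSucc] at h
    have e1 : (cPoly δ E (m + 1)).coeff 0 = chern δ E (m + 1) 0 := coeff_cPoly E (m + 1) 0
    have e2 : (cPoly δ F m).coeff 0 = chern δ F m 0 := coeff_cPoly F m 0
    rw [e1, e2, coeff_X_mul_zero, mul_zero, add_zero, chern_zero hX hE, chern_zero hX hF]
  · rw [coeff_X_mul]
    by_cases hn : n ≤ m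
    · have h := key (Fin.succ ⟨n, Nat.lt_succ_of_le hn⟩)
      rw [Fin.cons_succ, ← coeff_cPoly, ← coeff_cPoly] at h
      rw [show (cPoly δ E (m + 1)).coeff (n + 1) = _ from h]
      congr 1
      by_cases hn' : n + 1 ≤ m
      · have e : (Fin.succ (⟨n, Nat.lt_succ_of_le hn⟩ : Fin (m + 1))) =
            Fin.castSucc (⟨n + 1, Nat.lt_succ_of_le hn'⟩ : Fin (m + 1)) := rfl
        rw [e, Fin.snoc_castSucc, ← coeff_cPoly]
      · have e : (Fin.succ (⟨n, Nat.lt_succ_of_le hn⟩ : Fin (m + 1))) = Fin.last (m + 1) := by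
          refine Fin.ext ?_
          simp
          omega
        rw [e, Fin.snoc_last, coeff_cPoly_of_lt F (by omega)]
    · rw [coeff_cPoly_of_lt E (by omega), coeff_cPoly_of_lt F (by omega), coeff_cPoly_of_lt F (by omega)]
      simp

theorem c1_iso [IsLocallyNoetherian X] (hδ : Cyc.IsDimFun X δ) {L M : X.Modules} (hL : PicF.IsInvertible L)
    (hM : PicF.IsInvertible M) (e : L ≅ M) : c1 δ L = c1 δ M := by
  refine end_ext fun k α hα => ?_
  obtain ⟨s, hs⟩ := exists_secs hL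
  obtain ⟨γ, hγ⟩ := exists_c1Cap_cycle hδ hL α s hs
  obtain ⟨s', hs', heq⟩ := c1CapFun_iso hδ hL hM e ⇑α s hs
  rw [c1_cls hδ hL hα hs hγ, c1_cls hδ hM hα hs' (hγ.trans heq.symm)]

theorem c1_structureModule [IsLocallyNoetherian X] (hδ : Cyc.IsDimFun X δ) :
    c1 δ (Coh.structureModule X) = 0 := by
  refine end_ext fun k α hα => ?_
  obtain ⟨s, hs, h0⟩ := exists_trivial_sections hδ
  rw [c1_cls hδ AmpleLib.isInvertible_structureModule hα hs (γ := 0) (h0 _).symm, cls_zero]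
  rfl

theorem c1_tensor [IsLocallyNoetherian X] (hδ : Cyc.IsDimFun X δ) {L N : X.Modules} (hL : PicF.IsInvertible L)
    (hN : PicF.IsInvertible N) : c1 δ (CohB1.tensorMod L N) = c1 δ L + c1 δ N := by
  refine end_ext fun k α hα => ?_
  obtain ⟨sL, hsL⟩ := exists_secs hL
  obtain ⟨sN, hsN⟩ := exists_secs hN
  choose sT hsT heq using fun ξ => exists_tensor_sections hδ hL hN ξ (sL ξ) (hsL ξ) (sN ξ) (hsN ξ)
  have h := c1CapFun_tensor_aux hδ α sL sN sT fun ξ x hx hd => heq ξ x hx hd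
  obtain ⟨γ, hγ⟩ := exists_c1Cap_cycle hδ hL α sL hsL
  obtain ⟨γ', hγ'⟩ := exists_c1Cap_cycle hδ hN α sN hsN
  have hsum : ⇑(γ + γ') = Cyc.c1CapFun δ (CohB1.tensorMod L N) ⇑α sT := by
    rw [h, ← hγ, ← hγ']
    rfl
  rw [c1_cls hδ (AmpleLib.isInvertible_tensorMod hL hN) hα hsT hsum]
  show _ = c1 δ L (cls δ k α) + c1 δ N (cls δ k α)
  rw [c1_cls hδ hL hα hsL hγ, c1_cls hδ hN hα hsN hγ', cls_add (c1Cap_mem hα hγ) (c1Cap_mem hα hγ')]

/-! ### compatibility with pullback and pushforward -/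

theorem pull_c1 (f : Y ⟶ X) [Flat f] [IsLocallyNoetherian X] [IsLocallyNoetherian Y]
    (hY : Cyc.IsDimFun Y δY) (hX : Cyc.IsDimFun X δ) {c : ℤ}
    (hc : ∀ y, GenInFibre f y → δY y = δ (f y) + c) {L : X.Modules} (hL : PicF.IsInvertible L) (x : CHT X δ) :
    pull f δY δ c (c1 δ L x) = c1 δY ((Scheme.Modules.pullback f).obj L) (pull f δY δ c x) := by
  have hL' := PicLoc.isInvertible_pullback f hL
  refine DFunLike.congr_fun (hom_ext (f := (pull f δY δ c).comp (c1 δ L))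
    (g := AddMonoidHom.comp (c1 δY ((Scheme.Modules.pullback f).obj L)) (pull f δY δ c)) fun k α hα => ?_) x
  obtain ⟨s, hs⟩ := exists_secs hL
  obtain ⟨γ, hγ⟩ := exists_c1Cap_cycle hX hL α s hs
  obtain ⟨β, hβ⟩ := exists_pullback_cycle f δY δ c hc α
  obtain ⟨w, hw, heq⟩ := c1CapFun_pullback f hY hX c hc hL α s hs
  obtain ⟨γ', hγ'⟩ := exists_c1Cap_cycle hY hL' β w hw
  show pull f δY δ c (c1 δ L (cls δ k α)) = c1 δY _ (pull f δY δ c (cls δ k α))
  rw [c1_cls hX hL hα hs hγ, pull_cls f hY hX hc (c1Cap_mem hα hγ) (β := γ') (by rw [hγ', hβ, hγ, heq]),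
    pull_cls f hY hX hc hα hβ, c1_cls hY hL' (pullFun_mem_Zk f δY δ c hα hβ) hw hγ',
    show k - 1 + c = k + c - 1 by ring]

theorem pull_chern (f : Y ⟶ X) [Flat f] [LocallyOfFiniteType f] (hY : Cyc.IsSetup Y δY) (hX : Cyc.IsSetup X δ)
    (c : ℕ) (hc : Cyc.HasRelDim f c) (hf : Cyc.DeltaCompat f δY δ) {r : ℕ} {E : X.Modules}
    (hE : FlatMod.IsFinLocFreeOfRank r E) (j : Fin (r + 1)) (x : CHT X δ) :
    pull f δY δ c (chern δ E r j x) =
      chern δY ((Scheme.Modules.pullback f).obj E) r j (pull f δY δ c x) := by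
  haveI := hX.1
  haveI := hY.1
  have hcf := delta_of_hasRelDim f hc hf
  have hE' := Groth.Agent.VarietyLib.isFinLocFreeOfRank_pullback f hE
  obtain ⟨P, p, O1, q, δP, hP, hp, hPs, hδ⟩ := exists_projBundle_setup hX hE
  have hsq : IsPullback (pullback.fst p f) (pullback.snd p f) p f := IsPullback.of_hasPullback p f
  haveI : IsProper (pullback.snd p f) := MorphismProperty.of_isPullback (P := @IsProper) hsq inferInstance
  obtain ⟨δP', hP's, hπ'⟩ := exists_setup (pullback.snd p f) hY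
  have hP' := isProjBundle_baseChange q hP hsq
  refine DFunLike.congr_fun (hom_ext (f := (pull f δY δ c).comp (chern δ E r j))
    (g := AddMonoidHom.comp (chern δY ((Scheme.Modules.pullback f).obj E) r j) (pull f δY δ c)) fun k α hα => ?_) x
  obtain ⟨γ, hγ⟩ := exists_chernCap hX hE hP hPs hδ α hα
  obtain ⟨αY, hαY⟩ := exists_pullback_cycle f δY δ c hcf α
  have hαk := pullFun_mem_Zk f δY δ (c : ℤ) hα hαY
  obtain ⟨γ', hγ'⟩ := exists_chernCap hY hE' hP' hP's hπ' αY hαk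
  choose β hβ using fun i => exists_pullback_cycle f δY δ (c : ℤ) hcf (γ i)
  show pull f δY δ c (chern δ E r j (cls δ k α)) = chern δY _ r j (pull f δY δ c (cls δ k α))
  rw [chern_cls hX hE hP hPs hδ hα hγ j, pull_cls f hY.2.2 hX.2.2 hcf (hγ.2.1 j) (hβ j),
    pull_cls f hY.2.2 hX.2.2 hcf hα hαY, chern_cls hY hE' hP' hP's hπ' hαk hγ' j,
    show k - ((j : ℕ) : ℤ) + (c : ℤ) = k + c - ((j : ℕ) : ℤ) by ring]
  refine cls_congr hY.2.2 ?_ (hγ'.2.1 j) (chernCap_pullFun hY hX f c hc hf hE hP hPs hδ hsq hP's hπ' hαY hγ hγ' β hβ j)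
  have h := pullFun_mem_Zk f δY δ (c : ℤ) (hγ.2.1 j) (hβ j)
  rwa [show k - ((j : ℕ) : ℤ) + (c : ℤ) = k + c - ((j : ℕ) : ℤ) by ring] at h

theorem push_c1 (f : Y ⟶ X) [IsProper f] [IsLocallyNoetherian X] [IsLocallyNoetherian Y]
    (hY : Cyc.IsDimFun Y δY) (hX : Cyc.IsDimFun X δ) (hf : Cyc.DeltaCompat f δY δ) {L : X.Modules}
    (hL : PicF.IsInvertible L) (x : CHT Y δY) :
    push f δY δ (c1 δY ((Scheme.Modules.pullback f).obj L) x) = c1 δ L (push f δY δ x) := by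
  have hL' := PicLoc.isInvertible_pullback f hL
  refine DFunLike.congr_fun (hom_ext (f := (push f δY δ).comp (c1 δY ((Scheme.Modules.pullback f).obj L)))
    (g := AddMonoidHom.comp (c1 δ L) (push f δY δ)) fun k α hα => ?_) x
  obtain ⟨s, hs⟩ := exists_secs hL
  obtain ⟨w, γ, hw, hγ, hmap⟩ := c1Cap_push hY hX f hf hL α s hs
  show push f δY δ (c1 δY _ (cls δY k α)) = c1 δ L (push f δY δ (cls δY k α))
  rw [c1_cls hY hL' hα hw hγ, push_cls f hY hX hf (c1Cap_mem hα hγ), push_cls f hY hX hf hα,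
    c1_cls hX hL (map_mem_Zk f δY δ hα) hs hmap]

theorem push_chern (f : Y ⟶ X) [IsProper f] (hY : Cyc.IsSetup Y δY) (hX : Cyc.IsSetup X δ)
    (hf : Cyc.DeltaCompat f δY δ) {r : ℕ} {E : X.Modules}
    (hE : FlatMod.IsFinLocFreeOfRank r E) (j : Fin (r + 1)) (x : CHT Y δY) :
    push f δY δ (chern δY ((Scheme.Modules.pullback f).obj E) r j x) = chern δ E r j (push f δY δ x) := by
  haveI := hX.1
  haveI := hY.1
  have hE' := Groth.Agent.VarietyLib.isFinLocFreeOfRank_pullback f hE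
  obtain ⟨P, p, O1, q, δP, hP, hp, hPs, hδ⟩ := exists_projBundle_setup hX hE
  have hsq : IsPullback (pullback.fst p f) (pullback.snd p f) p f := IsPullback.of_hasPullback p f
  haveI : IsProper (pullback.snd p f) := MorphismProperty.of_isPullback (P := @IsProper) hsq inferInstance
  obtain ⟨δP', hP's, hπ'⟩ := exists_setup (pullback.snd p f) hY
  have hP' := isProjBundle_baseChange q hP hsq
  refine DFunLike.congr_fun (hom_ext (f := (push f δY δ).comp (chern δY ((Scheme.Modules.pullback f).obj E) r j))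
    (g := AddMonoidHom.comp (chern δ E r j) (push f δY δ)) fun k α hα => ?_) x
  obtain ⟨γ, hγ⟩ := exists_chernCap hY hE' hP' hP's hπ' α hα
  obtain ⟨γ', hγ'⟩ := exists_chernCap hX hE hP hPs hδ _ (map_mem_Zk f δY δ hα)
  show push f δY δ (chern δY _ r j (cls δY k α)) = chern δ E r j (push f δY δ (cls δY k α))
  rw [chern_cls hY hE' hP' hP's hπ' hα hγ j, push_cls f hY.2.2 hX.2.2 hf (hγ.2.1 j), push_cls f hY.2.2 hX.2.2 hf hα,
    chern_cls hX hE hP hPs hδ (map_mem_Zk f δY δ hα) hγ' j]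
  exact cls_congr hX.2.2 (map_mem_Zk f δY δ (hγ.2.1 j)) (hγ'.2.1 j)
    (chernCap_map hY hX f hf hE hP hPs hδ hsq hP's hπ' hγ hγ' j)

/-- The iterated first Chern class of a class. -/
theorem c1_pow_cls [IsLocallyNoetherian X] (hδ : Cyc.IsDimFun X δ) {L : X.Modules} (hL : PicF.IsInvertible L)
    {k : ℤ} {α : AlgebraicCycle X ℤ} (hα : α ∈ Cyc.Zk X δ k) {t : ℕ → (ξ : X) → Cyc.secFibre L ξ}
    (ht : ∀ i ξ, t i ξ ≠ 0) :
    ∀ (n : ℕ) (c : AlgebraicCycle X ℤ), ⇑c = Cyc.c1PowFun δ L t n ⇑α →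
      (c1 δ L ^ n) (cls δ k α) = cls δ (k - n) c
  | 0, c, hc => by
    rw [pow_zero, show c = α from DFunLike.coe_injective hc, Nat.cast_zero, sub_zero]
    rfl
  | n + 1, c, hc => by
    obtain ⟨d, hd, hdk⟩ := exists_pow_cycles hδ hL α hα t ht (fun j => Cyc.c1PowFun δ L t j ⇑α) rfl (fun _ => rfl) n
    rw [pow_succ']
    show c1 δ L ((c1 δ L ^ n) (cls δ k α)) = _
    rw [c1_pow_cls hδ hL hα ht n d hd, c1_cls hδ hL hdk (ht n) (γ := c) (by rw [hc, hd]; rfl),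
      show k - ((n + 1 : ℕ) : ℤ) = k - n - 1 by push_cast; ring]

variable {P : Scheme.{u}} {δP : P → ℤ} {p : P ⟶ X} [IsProper p] {m : ℕ} {E : X.Modules} {O1 : P.Modules}
  {q : (Scheme.Modules.pullback p).obj E ⟶ O1}

/-- `π_* (c₁(O(1))^m ∩ π^* x) = x`. -/
theorem push_pow_pull (hX : Cyc.IsSetup X δ) (hE : FlatMod.IsFinLocFreeOfRank (m + 1) E)
    (hP : KRR.IsProjBundle p E O1 q) (hPs : Cyc.IsSetup P δP) (hδ : Cyc.DeltaCompat p δP δ) (x : CHT X δ) :
    push p δP δ ((c1 δP O1 ^ m) (pull p δP δ m x)) = x := by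
  haveI := hX.1
  haveI := hPs.1
  haveI := isQCoh_of_rank hE
  haveI : Flat p := flat_of_isProjBundle hE hP
  have hinv := isInvertible_of_rankOne hP.invertible
  have hcp := delta_genInFibre hE hP hPs.2.2 hδ
  refine DFunLike.congr_fun (hom_ext
    (f := (push p δP δ).comp (AddMonoidHom.comp (c1 δP O1 ^ m : AddMonoid.End (CHT P δP)) (pull p δP δ m)))
    (g := AddMonoidHom.id _) fun k α hα => ?_) x
  obtain ⟨a, ha, hak⟩ := exists_pullback hE hP hPs.2.2 hδ k α hα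
  obtain ⟨c, hc, hck⟩ := exists_pow_cycles hPs.2.2 hinv a hak (flagSecs hE hP) (flagSecs_ne_zero hE hP)
    (fun j => Cyc.c1PowFun δP O1 (flagSecs hE hP) j ⇑a) rfl (fun _ => rfl) m
  have hck' : c ∈ Cyc.Zk P δP k := by simpa using hck
  show push p δP δ ((c1 δP O1 ^ m) (pull p δP δ m (cls δ k α))) = cls δ k α
  rw [pull_cls p hPs.2.2 hX.2.2 hcp hα ha, c1_pow_cls hPs.2.2 hinv hak (flagSecs_ne_zero hE hP) m c hc,
    add_sub_cancel_right, push_cls p hPs.2.2 hX.2.2 hδ hck']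
  refine cls_congr hX.2.2 (map_mem_Zk p δP δ hck') hα ?_
  exact map_pow_ratEquiv hE hP hX.2.2 hPs.2.2 hδ k α hα (flagSecs hE hP) (flagSecs_ne_zero hE hP)
    (fun j => Cyc.c1PowFun δP O1 (flagSecs hE hP) j ⇑a) (by rw [← ha]; rfl) (fun _ => rfl) c hc

theorem pull_injective (hX : Cyc.IsSetup X δ) (hE : FlatMod.IsFinLocFreeOfRank (m + 1) E)
    (hP : KRR.IsProjBundle p E O1 q) (hPs : Cyc.IsSetup P δP) (hδ : Cyc.DeltaCompat p δP δ) :
    Function.Injective (pull p δP δ (m : ℤ)) := fun x y h => by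
  rw [← push_pow_pull hX hE hP hPs hδ x, h, push_pow_pull hX hE hP hPs hδ y]

end Groth.Agent.CycLib28.PB.Ops
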