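import Groth.Agent.CycLib28.PB.SubWhitney

/-!
# Independence of the chosen projective bundle
-/

set_option autoImplicit false
set_option linter.unusedSectionVars false
set_option linter.style.haveILetI false
set_option backward.isDefEq.respectTransparency.types false

universe u

open AlgebraicGeometry CategoryTheory CategoryTheory.Limits
open Groth.Agent.KRRPBLib Groth.Agent.Coherent Groth.Agent.PicLib Groth.Agent.CycLim28

namespace Groth.Agent.CycLib28.PB

theorem isProjBundle_of_iso {X P : Scheme.{u}} {E E' : X.Modules} (i : E' ≅ E) {p : P ⟶ X} {O1 : P.Modules}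
    {q : (Scheme.Modules.pullback p).obj E ⟶ O1} (hP : KRR.IsProjBundle p E O1 q) :
    KRR.IsProjBundle p E' O1 ((Scheme.Modules.pullback p).map i.hom ≫ q) where
  invertible := hP.invertible
  epi := haveI := hP.epi; epi_comp _ _
  univ T g L hL s hs := by
    obtain ⟨h, ⟨hg, e, he⟩, huniq⟩ := hP.univ T g L hL ((Scheme.Modules.pullback g).map i.inv ≫ s) inferInstance
    have key : ∀ (h : T ⟶ P) (hg : h ≫ p = g) (e : (Scheme.Modules.pullback h).obj O1 ≅ L),
        (Scheme.Modules.pullbackCongr hg).inv.app E' ≫ (Scheme.Modules.pullbackComp h p).inv.app E' ≫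
          (Scheme.Modules.pullback h).map ((Scheme.Modules.pullback p).map i.hom ≫ q) ≫ e.hom =
        (Scheme.Modules.pullback g).map i.hom ≫ ((Scheme.Modules.pullbackCongr hg).inv.app E ≫
          (Scheme.Modules.pullbackComp h p).inv.app E ≫ (Scheme.Modules.pullback h).map q ≫ e.hom) := by
      intro h hg e
      subst hg
      have hn : (Scheme.Modules.pullback (h ≫ p)).map i.hom ≫ (Scheme.Modules.pullbackComp h p).inv.app E =
          (Scheme.Modules.pullbackComp h p).inv.app E' ≫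
            (Scheme.Modules.pullback h).map ((Scheme.Modules.pullback p).map i.hom) :=
        (Scheme.Modules.pullbackComp h p).inv.naturality i.hom
      simp only [Scheme.Modules.pullbackCongr, eqToIso_refl, Iso.refl_inv, NatTrans.id_app, Category.id_comp,
        Functor.map_comp, Category.assoc]
      rw [← reassoc_of% hn]
    refine ⟨h, ⟨hg, e, ?_⟩, fun r ⟨hr, τ, hτ⟩ => huniq r ⟨hr, τ, ?_⟩⟩
    · rw [key, he, ← Functor.map_comp_assoc, i.hom_inv_id, CategoryTheory.Functor.map_id, Category.id_comp]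
    · rw [key] at hτ
      rw [← hτ, ← Functor.map_comp_assoc, i.inv_hom_id, CategoryTheory.Functor.map_id, Category.id_comp]

/-- Two projective bundles of a module are isomorphic compatibly with `O(1)`. -/
theorem exists_bundle_iso {X P P' : Scheme.{u}} {E : X.Modules} {p : P ⟶ X} {O1 : P.Modules}
    {q : (Scheme.Modules.pullback p).obj E ⟶ O1} (hP : KRR.IsProjBundle p E O1 q) {p' : P' ⟶ X} {O1' : P'.Modules}
    {q' : (Scheme.Modules.pullback p').obj E ⟶ O1'} (hP' : KRR.IsProjBundle p' E O1' q') :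
    ∃ (g : P' ⟶ P), IsIso g ∧ g ≫ p = p' ∧ Nonempty ((Scheme.Modules.pullback g).obj O1 ≅ O1') := by
  have key : ∀ {A B : Scheme.{u}} {a : A ⟶ X} {OA : A.Modules} {qa : (Scheme.Modules.pullback a).obj E ⟶ OA}
      {b : B ⟶ X} {OB : B.Modules} {qb : (Scheme.Modules.pullback b).obj E ⟶ OB},
      KRR.IsProjBundle a E OA qa → KRR.IsProjBundle b E OB qb → ∀ (f : A ⟶ B) (g : B ⟶ A) (hf : f ≫ b = a)
        (hg : g ≫ a = b) (ef : (Scheme.Modules.pullback f).obj OB ≅ OA)
        (eg : (Scheme.Modules.pullback g).obj OA ≅ OB),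
      (Scheme.Modules.pullbackCongr hf).inv.app E ≫ (Scheme.Modules.pullbackComp f b).inv.app E ≫
        (Scheme.Modules.pullback f).map qb ≫ ef.hom = qa →
      (Scheme.Modules.pullbackCongr hg).inv.app E ≫ (Scheme.Modules.pullbackComp g a).inv.app E ≫
        (Scheme.Modules.pullback g).map qa ≫ eg.hom = qb → f ≫ g = 𝟙 A := by
    intro A B a OA qa b OB qb hA hB f g hf hg ef eg hqa hqb
    obtain ⟨r, -, huniq⟩ := hA.univ A a OA hA.invertible qa hA.epi
    subst hg
    refine (huniq (f ≫ g) ⟨(Category.assoc f g a).trans hf,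
      ((Scheme.Modules.pullbackComp f g).app OA).symm ≪≫ (Scheme.Modules.pullback f).mapIso eg ≪≫ ef, ?_⟩).trans
      (huniq (𝟙 A) ⟨Category.id_comp a, (Scheme.Modules.pullbackId A).app OA, ?_⟩).symm
    · have hc := compat_pullback (b := 𝟙 E) (q := qa) (q' := qb) (ι := g) (e := eg) (p := a) (by
        simp [Scheme.Modules.pullbackCongr] at hqb
        rw [CategoryTheory.Functor.map_id, Category.id_comp]
        exact hqb) f
      rw [CategoryTheory.Functor.map_id, Category.id_comp] at hc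
      have hcc : (Scheme.Modules.pullbackCongr ((Category.assoc f g a).trans hf)).inv.app E =
          (Scheme.Modules.pullbackCongr hf).inv.app E ≫ (Scheme.Modules.pullbackCongr (Category.assoc f g a)).inv.app E := by
        rw [pullbackCongr_inv_app, pullbackCongr_inv_app, pullbackCongr_inv_app, pullbackCongr_trans_app]
      simp only [Iso.trans_hom, Iso.symm_hom, Iso.app_inv, Functor.mapIso_hom]
      rw [hcc, Category.assoc, ← reassoc_of% hc]
      exact hqa
    · have hnat := (Scheme.Modules.pullbackId A).hom.naturality qa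
      simp only [Iso.app_hom]
      rw [hnat, ← Category.assoc ((Scheme.Modules.pullbackComp (𝟙 A) a).inv.app E)]
      have H := congrArg (fun η => NatTrans.app η E) (Scheme.Modules.pseudofunctor_right_unitality a)
      simp only [NatTrans.comp_app, Functor.whiskerLeft_app, Functor.rightUnitor_hom_app, Category.comp_id,
        eqToHom_app] at H
      erw [Category.comp_id] at H
      rw [H]
      simp [Scheme.Modules.pullbackCongr, eqToIso.inv, eqToHom_app]
  haveI := hP.epi
  haveI := hP'.epi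
  obtain ⟨g, ⟨hg, e, he⟩, -⟩ := hP.univ P' p' O1' hP'.invertible q' hP'.epi
  obtain ⟨g', ⟨hg', e', he'⟩, -⟩ := hP'.univ P p O1 hP.invertible q hP.epi
  exact ⟨g, ⟨g', key hP' hP g g' hg hg' e e' he he', key hP hP' g' g hg' hg e' e he' he⟩, hg, ⟨e⟩⟩

/-- Isomorphic `O(1)`s give the same Chern class caps. -/
theorem isChernCap_iso_O1 {X P : Scheme.{u}} {δ : X → ℤ} {δP : P → ℤ} {r : ℕ} {E : X.Modules} {p : P ⟶ X}
    [IsProper p] {L M : P.Modules} {q : (Scheme.Modules.pullback p).obj E ⟶ M} (hX : Cyc.IsSetup X δ)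
    (hE : FlatMod.IsFinLocFreeOfRank r E) (hP : KRR.IsProjBundle p E M q) (hPs : Cyc.IsSetup P δP)
    (hc : Cyc.DeltaCompat p δP δ) (hL : PicF.IsInvertible L) (e : L ≅ M) {k : ℤ} {α : AlgebraicCycle X ℤ}
    {γ : Fin (r + 1) → AlgebraicCycle X ℤ} (hγ : Cyc.IsChernCap p δ δP M r k α γ) :
    Cyc.IsChernCap p δ δP L r k α γ := by
  haveI := hX.1
  haveI := hPs.1
  haveI := isQCoh_of_rank hE
  refine ⟨hγ.1, hγ.2.1, fun t ht β hβ => ?_⟩
  cases r with
  | zero =>
    haveI := isEmpty_of_rank_zero hE hP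
    rw [show β = 0 from DFunLike.ext _ _ fun y => isEmptyElim y]
    exact P1Inter.ratEquivZero_zero
  | succ m =>
    have hM := isInvertible_of_rankOne hP.invertible
    set u := flagSecs hE hP
    have hu : ∀ i ξ, u i ξ ≠ 0 := flagSecs_ne_zero hE hP
    obtain ⟨c, hc', -, hc0⟩ := exists_terms_of_isChernCap hE hP hPs.2.2 hc hγ u hu
    choose a ha hak using fun i : Fin (m + 2) => exists_pullback hE hP hPs.2.2 hc _ (γ (Fin.rev i)) (hγ.2.1 _)
    choose d hd hdk using fun i : Fin (m + 2) => exists_pow_cycles hPs.2.2 hL (a i) (hak i) t ht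
      (fun j => Cyc.c1PowFun δP L t j ⇑(a i)) rfl (fun _ => rfl) i
    have hβd : β = ∑ i : Fin (m + 2), (-1 : ℤ) ^ (i : ℕ) • d i := DFunLike.ext _ _ fun y => by
      rw [hβ, coe_signed_sum, show (((m + 1 : ℕ) : ℤ) - 1) = (m : ℤ) by push_cast; ring]
      exact Finset.sum_congr rfl fun i _ => by rw [hd, ha]
    rw [hβd]
    refine rel_transfer hPs.2.2 d c (fun i => ?_) hc0
    obtain ⟨v, hv, hveq⟩ := exists_pow_iso hPs.2.2 hL hM e ⇑(a i) t ht
    have h := pow_congr hPs.2.2 hM (hak i) (hak i) (ratEquiv_refl _) hv hu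
      (γ := fun j => Cyc.c1PowFun δP M v j ⇑(a i)) rfl (fun _ => rfl)
      (γ' := fun j => Cyc.c1PowFun δP M u j ⇑(a i)) rfl (fun _ => rfl) i (d i) (c i)
      (by rw [hd, hveq]) (by rw [hc', ha])
    rwa [show k - (((Fin.rev i : Fin (m + 2)) : ℕ) : ℤ) + (m : ℤ) - ((i : ℕ) : ℤ) = k - 1 by
      rw [Fin.val_rev]; omega] at h

/-- The caps do not depend on the projective bundle. -/
theorem chernCap_bundle_indep {X : Scheme.{u}} {δ : X → ℤ} (hX : Cyc.IsSetup X δ) {r : ℕ} {E : X.Modules}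
    (hE : FlatMod.IsFinLocFreeOfRank r E) {P : Scheme.{u}} {p : P ⟶ X} {O1 : P.Modules}
    {q : (Scheme.Modules.pullback p).obj E ⟶ O1} (hP : KRR.IsProjBundle p E O1 q) [IsProper p] {δP : P → ℤ}
    (hPs : Cyc.IsSetup P δP) (hδ : Cyc.DeltaCompat p δP δ) {P' : Scheme.{u}} {p' : P' ⟶ X} {O1' : P'.Modules}
    {q' : (Scheme.Modules.pullback p').obj E ⟶ O1'} (hP' : KRR.IsProjBundle p' E O1' q') [IsProper p']
    {δP' : P' → ℤ} (hPs' : Cyc.IsSetup P' δP') (hδ' : Cyc.DeltaCompat p' δP' δ) {k : ℤ} {α : AlgebraicCycle X ℤ}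
    {γ γ' : Fin (r + 1) → AlgebraicCycle X ℤ} (hγ : Cyc.IsChernCap p δ δP O1 r k α γ)
    (hγ' : Cyc.IsChernCap p' δ δP' O1' r k α γ') (j : Fin (r + 1)) :
    Cyc.RatEquiv δ (k - ((j : ℕ) : ℤ)) (γ j) (γ' j) := by
  haveI := hX.1
  obtain ⟨g, hgi, hg, ⟨e⟩⟩ := exists_bundle_iso hP hP'
  have hsq : IsPullback g p' p (𝟙 X) := IsPullback.of_horiz_isIso ⟨by rw [hg, Category.comp_id]⟩
  have hinv := PicLoc.isInvertible_pullback g (isInvertible_of_rankOne hP.invertible)
  have h := chernCap_map hX hX (𝟙 X) (deltaCompat_id δ) hE hP hPs hδ hsq hPs' hδ'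
    (isChernCap_iso_O1 hX hE hP' hPs' hδ' hinv e hγ') (γ' := γ)
    (by rw [AlgebraicCycle.map_id]; exact hγ) j
  rw [AlgebraicCycle.map_id] at h
  exact ratEquiv_symm hX.2.2 h

end Groth.Agent.CycLib28.PB
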