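import Groth.Agent.CycLib28.PB.Ops.Chow
import Groth.Agent.CycLib28.PB.Ops.Indep
import Groth.Agent.CycLib28.PB.Exists
import Mathlib.Algebra.Polynomial.Coeff

/-!
# Pullback, pushforward, first Chern classes and Chern classes on the total Chow group
-/

set_option autoImplicit false
set_option linter.unusedSectionVars false
set_option linter.style.haveILetI false
set_option backward.isDefEq.respectTransparency.types false

universe u

open AlgebraicGeometry CategoryTheory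
open Groth.Agent.KRRPBLib Groth.Agent.PicLib Groth.Agent.CycLim28

namespace Groth.Agent.CycLib28.PB.Ops

variable {X Y : Scheme.{u}} {δ : X → ℤ} {δY : Y → ℤ}

/-! ### pullback -/

/-- The characteristic property of the flat pullback. -/
def IsPull (f : Y ⟶ X) (δY : Y → ℤ) (δ : X → ℤ) (c : ℤ) (F : CHT X δ →+ CHT Y δY) : Prop :=
  ∀ (k : ℤ) (α : AlgebraicCycle X ℤ) (β : AlgebraicCycle Y ℤ), α ∈ Cyc.Zk X δ k →
    ⇑β = Cyc.pullFun f δY δ c ⇑α → F (cls δ k α) = cls δY (k + c) β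

open scoped Classical in
/-- Flat pullback of relative dimension `c` (junk if it does not exist). -/
noncomputable def pull (f : Y ⟶ X) (δY : Y → ℤ) (δ : X → ℤ) (c : ℤ) : CHT X δ →+ CHT Y δY :=
  if h : ∃ F, IsPull f δY δ c F then h.choose else 0

theorem exists_isPull (f : Y ⟶ X) [Flat f] [IsLocallyNoetherian X] [IsLocallyNoetherian Y]
    (hY : Cyc.IsDimFun Y δY) (hX : Cyc.IsDimFun X δ) (c : ℤ)
    (hc : ∀ y, GenInFibre f y → δY y = δ (f y) + c) : ∃ F, IsPull f δY δ c F := by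
  refine exists_hom hX c (fun _ α β => ⇑β = Cyc.pullFun f δY δ c ⇑α)
    (fun k α _ => exists_pullback_cycle f δY δ c hc α) (fun k α β hα hβ => pullFun_mem_Zk f δY δ c hα hβ)
    (fun k α α' β β' hα hα' hβ hβ' => ⟨β + β', ?_, cls_add (pullFun_mem_Zk f δY δ c hα hβ)
      (pullFun_mem_Zk f δY δ c hα' hβ')⟩) fun k α α' β β' hα hα' h hβ hβ' => ?_
  · rw [show (⇑(α + α') : X → ℤ) = ⇑α + ⇑α' from rfl, pullFun_add_fun, ← hβ, ← hβ']
    rfl
  · refine cls_congr hY (pullFun_mem_Zk f δY δ c hα hβ) (pullFun_mem_Zk f δY δ c hα' hβ') ?_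
    refine pullFun_ratEquivZero f hY hX c hc k (α - α') h (β - β') ?_
    rw [show (⇑(α - α') : X → ℤ) = ⇑α - ⇑α' from rfl, pullFun_sub_fun, ← hβ, ← hβ']
    rfl

theorem pull_cls (f : Y ⟶ X) [Flat f] [IsLocallyNoetherian X] [IsLocallyNoetherian Y]
    (hY : Cyc.IsDimFun Y δY) (hX : Cyc.IsDimFun X δ) {c : ℤ}
    (hc : ∀ y, GenInFibre f y → δY y = δ (f y) + c) {k : ℤ} {α : AlgebraicCycle X ℤ} (hα : α ∈ Cyc.Zk X δ k)
    {β : AlgebraicCycle Y ℤ} (hβ : ⇑β = Cyc.pullFun f δY δ c ⇑α) :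
    pull f δY δ c (cls δ k α) = cls δY (k + c) β := by
  have h := exists_isPull f hY hX c hc
  rw [pull, dif_pos h]
  exact h.choose_spec k α β hα hβ

/-! ### pushforward -/

open scoped Classical in
/-- Proper pushforward (junk if it does not exist). -/
noncomputable def push (f : Y ⟶ X) [QuasiCompact f] (δY : Y → ℤ) (δ : X → ℤ) : CHT Y δY →+ CHT X δ :=
  if h : ∃ F : CHT Y δY →+ CHT X δ, ∀ k α, α ∈ Cyc.Zk Y δY k →
      F (cls δY k α) = cls δ k (AlgebraicCycle.map f δY δ α) then h.choose else 0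

theorem push_cls (f : Y ⟶ X) [IsProper f] [IsLocallyNoetherian X] [IsLocallyNoetherian Y]
    (hY : Cyc.IsDimFun Y δY) (hX : Cyc.IsDimFun X δ) (hf : Cyc.DeltaCompat f δY δ) {k : ℤ}
    {α : AlgebraicCycle Y ℤ} (hα : α ∈ Cyc.Zk Y δY k) :
    push f δY δ (cls δY k α) = cls δ k (AlgebraicCycle.map f δY δ α) := by
  have h : ∃ F : CHT Y δY →+ CHT X δ, ∀ k α, α ∈ Cyc.Zk Y δY k →
      F (cls δY k α) = cls δ k (AlgebraicCycle.map f δY δ α) := by
    obtain ⟨F, hF⟩ := exists_hom (Y := X) (δY := δ) hY 0 (fun _ α β => β = AlgebraicCycle.map f δY δ α)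
      (fun k α _ => ⟨_, rfl⟩) (fun k α β hα hβ => by subst hβ; rw [add_zero]; exact map_mem_Zk f δY δ hα)
      (fun k α α' β β' hα hα' hβ hβ' => by
        subst hβ; subst hβ'
        refine ⟨_, rfl, ?_⟩
        rw [show AlgebraicCycle.map f δY δ (α + α') = _ from map_add (mapHom f δY δ) α α', add_zero]
        exact cls_add (map_mem_Zk f δY δ hα) (map_mem_Zk f δY δ hα'))
      fun k α α' β β' hα hα' h hβ hβ' => by
        subst hβ; subst hβ'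
        rw [add_zero]
        refine cls_congr hX (map_mem_Zk f δY δ hα) (map_mem_Zk f δY δ hα') ?_
        have h' := map_ratEquivZero hY hX f hf k (α - α') h
        rwa [map_sub_apply] at h'
    exact ⟨F, fun k α hα => by simpa using hF k α _ hα rfl⟩
  rw [push, dif_pos h]
  exact h.choose_spec k α hα

/-! ### first Chern classes -/

open scoped Classical in
/-- `c₁(L) ∩ -` (junk if it does not exist). -/
noncomputable def c1 (δ : X → ℤ) (L : X.Modules) : AddMonoid.End (CHT X δ) :=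
  if h : ∃ F : CHT X δ →+ CHT X δ, ∀ k α (s : (ξ : X) → Cyc.secFibre L ξ) (γ : AlgebraicCycle X ℤ),
      α ∈ Cyc.Zk X δ k → (∀ ξ, s ξ ≠ 0) → ⇑γ = Cyc.c1CapFun δ L ⇑α s →
        F (cls δ k α) = cls δ (k - 1) γ then h.choose else 0

theorem c1_cls [IsLocallyNoetherian X] (hδ : Cyc.IsDimFun X δ) {L : X.Modules} (hL : PicF.IsInvertible L) {k : ℤ}
    {α : AlgebraicCycle X ℤ} (hα : α ∈ Cyc.Zk X δ k) {s : (ξ : X) → Cyc.secFibre L ξ} (hs : ∀ ξ, s ξ ≠ 0)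
    {γ : AlgebraicCycle X ℤ} (hγ : ⇑γ = Cyc.c1CapFun δ L ⇑α s) : c1 δ L (cls δ k α) = cls δ (k - 1) γ := by
  have h : ∃ F : CHT X δ →+ CHT X δ, ∀ k α (s : (ξ : X) → Cyc.secFibre L ξ) (γ : AlgebraicCycle X ℤ),
      α ∈ Cyc.Zk X δ k → (∀ ξ, s ξ ≠ 0) → ⇑γ = Cyc.c1CapFun δ L ⇑α s → F (cls δ k α) = cls δ (k - 1) γ := by
    have hmem : ∀ {k : ℤ} {α γ : AlgebraicCycle X ℤ} {s : (ξ : X) → Cyc.secFibre L ξ}, α ∈ Cyc.Zk X δ k →
        ⇑γ = Cyc.c1CapFun δ L ⇑α s → γ ∈ Cyc.Zk X δ (k - 1) := fun {k α γ s} hα hγ =>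
      Intersect.c1CapFun_mem_Zk (m := k - 1) ⇑α (fun x hx => hα x (by omega)) s γ hγ
    have hcongr : ∀ (k : ℤ) (α α' γ γ' : AlgebraicCycle X ℤ) (s s' : (ξ : X) → Cyc.secFibre L ξ),
        α ∈ Cyc.Zk X δ k → α' ∈ Cyc.Zk X δ k → Cyc.RatEquiv δ k α α' → (∀ ξ, s ξ ≠ 0) → (∀ ξ, s' ξ ≠ 0) →
        ⇑γ = Cyc.c1CapFun δ L ⇑α s → ⇑γ' = Cyc.c1CapFun δ L ⇑α' s' →
        cls δ (k - 1) γ = cls δ (k - 1) γ' := fun k α α' γ γ' s s' hα hα' h hs hs' hγ hγ' =>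
      cls_congr hδ (hmem hα hγ) (hmem hα' hγ')
        (c1Cap_congr hδ hL _ (by rwa [sub_add_cancel]) (by rwa [sub_add_cancel]) hs hs' hγ hγ')
    obtain ⟨F, hF⟩ := exists_hom (Y := X) (δY := δ) hδ (-1)
      (fun _ α γ => ∃ s : (ξ : X) → Cyc.secFibre L ξ, (∀ ξ, s ξ ≠ 0) ∧ ⇑γ = Cyc.c1CapFun δ L ⇑α s)
      (fun k α _ => by
        obtain ⟨γ, hγ⟩ := exists_c1Cap_cycle hδ hL α s hs
        exact ⟨γ, s, hs, hγ⟩)
      (fun k α γ hα ⟨s, hs, hγ⟩ => by rw [← sub_eq_add_neg]; exact hmem hα hγ)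
      (fun k α α' γ γ' hα hα' ⟨s, hs, hγ⟩ ⟨s', hs', hγ'⟩ => by
        obtain ⟨γ'', hγ''⟩ := exists_c1Cap_cycle hδ hL α' s hs
        refine ⟨γ + γ'', ⟨s, hs, ?_⟩, ?_⟩
        · rw [show (⇑(α + α') : X → ℤ) = ⇑α + ⇑α' from rfl, c1CapFun_add, ← hγ, ← hγ'']
          rfl
        · rw [← sub_eq_add_neg, cls_add (hmem hα hγ) (hmem hα' hγ''),
            hcongr k α' α' γ'' γ' s s' hα' hα' (ratEquiv_refl _) hs hs' hγ'' hγ'])
      fun k α α' γ γ' hα hα' h ⟨s, hs, hγ⟩ ⟨s', hs', hγ'⟩ => by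
        rw [← sub_eq_add_neg]
        exact hcongr k α α' γ γ' s s' hα hα' h hs hs' hγ hγ'
    exact ⟨F, fun k α s γ hα hs hγ => by rw [sub_eq_add_neg]; exact hF k α γ hα ⟨s, hs, hγ⟩⟩
  rw [c1, dif_pos h]
  exact h.choose_spec k α s γ hα hs hγ

/-! ### Chern classes -/

/-- The characteristic property of the `j`-th Chern class. -/
def IsCap (δ : X → ℤ) (E : X.Modules) {r : ℕ} (j : Fin (r + 1)) (F : CHT X δ →+ CHT X δ) : Prop :=
  ∀ (P : Scheme.{u}) (p : P ⟶ X) (O1 : P.Modules) (q : (Scheme.Modules.pullback p).obj E ⟶ O1) (δP : P → ℤ),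
    KRR.IsProjBundle p E O1 q → IsProper p → Cyc.IsSetup P δP → Cyc.DeltaCompat p δP δ →
      ∀ (k : ℤ) (α : AlgebraicCycle X ℤ) (γ : Fin (r + 1) → AlgebraicCycle X ℤ), α ∈ Cyc.Zk X δ k →
        Cyc.IsChernCap p δ δP O1 r k α γ → F (cls δ k α) = cls δ (k - ((j : ℕ) : ℤ)) (γ j)

open scoped Classical in
/-- `c_j(E) ∩ -` for `E` of rank `r` (junk if it does not exist). -/
noncomputable def chern (δ : X → ℤ) (E : X.Modules) (r : ℕ) (j : Fin (r + 1)) : AddMonoid.End (CHT X δ) :=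
  if h : ∃ F, IsCap δ E j F then h.choose else 0

theorem exists_isCap (hX : Cyc.IsSetup X δ) {r : ℕ} {E : X.Modules} (hE : FlatMod.IsFinLocFreeOfRank r E)
    (j : Fin (r + 1)) : ∃ F, IsCap δ E j F := by
  haveI := hX.1
  obtain ⟨P, p, O1, q, δP, hP, hp, hPs, hδ⟩ := exists_projBundle_setup hX hE
  obtain ⟨F, hF⟩ := exists_hom (Y := X) (δY := δ) hX.2.2 (-((j : ℕ) : ℤ))
    (fun k α β => ∃ γ, Cyc.IsChernCap p δ δP O1 r k α γ ∧ γ j = β)
    (fun k α hα => by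
      obtain ⟨γ, hγ⟩ := exists_chernCap hX hE hP hPs hδ α hα
      exact ⟨γ j, γ, hγ, rfl⟩)
    (fun k α β hα ⟨γ, hγ, e⟩ => by rw [← e, ← sub_eq_add_neg]; exact hγ.2.1 j)
    (fun k α α' β β' hα hα' ⟨γ, hγ, e⟩ ⟨γ', hγ', e'⟩ => by
      subst e; subst e'
      refine ⟨γ j + γ' j, ⟨γ + γ', isChernCap_add hX hE hP hPs hδ hγ hγ', rfl⟩, ?_⟩
      rw [← sub_eq_add_neg]
      exact cls_add (hγ.2.1 j) (hγ'.2.1 j))
    fun k α α' β β' hα hα' h ⟨γ, hγ, e⟩ ⟨γ', hγ', e'⟩ => by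
      subst e; subst e'
      rw [← sub_eq_add_neg]
      exact cls_congr hX.2.2 (hγ.2.1 j) (hγ'.2.1 j) (chernCap_unique hX hE hP hPs hδ h hγ hγ' j)
  refine ⟨F, fun P' p' O1' q' δP' hP' hp' hPs' hδ' k α γ' hα hγ' => ?_⟩
  obtain ⟨γ, hγ⟩ := exists_chernCap hX hE hP hPs hδ α hα
  rw [hF k α (γ j) hα ⟨γ, hγ, rfl⟩, ← sub_eq_add_neg]
  exact cls_congr hX.2.2 (hγ.2.1 j) (hγ'.2.1 j) (chernCap_bundle_indep hX hE hP hPs hδ hP' hPs' hδ' hγ hγ' j)

theorem chern_cls (hX : Cyc.IsSetup X δ) {r : ℕ} {E : X.Modules} (hE : FlatMod.IsFinLocFreeOfRank r E)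
    {P : Scheme.{u}} {p : P ⟶ X} {O1 : P.Modules} {q : (Scheme.Modules.pullback p).obj E ⟶ O1}
    (hP : KRR.IsProjBundle p E O1 q) [hp : IsProper p] {δP : P → ℤ} (hPs : Cyc.IsSetup P δP)
    (hδ : Cyc.DeltaCompat p δP δ) {k : ℤ} {α : AlgebraicCycle X ℤ} (hα : α ∈ Cyc.Zk X δ k)
    {γ : Fin (r + 1) → AlgebraicCycle X ℤ} (hγ : Cyc.IsChernCap p δ δP O1 r k α γ) (j : Fin (r + 1)) :
    chern δ E r j (cls δ k α) = cls δ (k - ((j : ℕ) : ℤ)) (γ j) := by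
  have h := exists_isCap hX hE j
  rw [chern, dif_pos h]
  exact h.choose_spec P p O1 q δP hP hp hPs hδ k α γ hα hγ

/-- The Chern polynomial. -/
noncomputable def cPoly (δ : X → ℤ) (E : X.Modules) (r : ℕ) : Polynomial (AddMonoid.End (CHT X δ)) :=
  ∑ j : Fin (r + 1), Polynomial.monomial (j : ℕ) (chern δ E r j)

theorem coeff_cPoly (E : X.Modules) (r : ℕ) (j : Fin (r + 1)) :
    (cPoly δ E r).coeff (j : ℕ) = chern δ E r j := by
  classical
  rw [cPoly, Polynomial.finsetSum_coeff, Finset.sum_eq_single j]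
  · rw [Polynomial.coeff_monomial, if_pos rfl]
  · intro i _ hi
    rw [Polynomial.coeff_monomial, if_neg fun h => hi (Fin.ext h)]
  · exact fun h => absurd (Finset.mem_univ j) h

theorem coeff_cPoly_of_lt (E : X.Modules) {r n : ℕ} (h : r < n) : (cPoly δ E r).coeff n = 0 := by
  classical
  rw [cPoly, Polynomial.finsetSum_coeff]
  refine Finset.sum_eq_zero fun i _ => ?_
  rw [Polynomial.coeff_monomial, if_neg]
  have := i.isLt
  omega

theorem chern_zero (hX : Cyc.IsSetup X δ) {r : ℕ} {E : X.Modules} (hE : FlatMod.IsFinLocFreeOfRank r E) :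
    chern δ E r 0 = 1 := by
  obtain ⟨P, p, O1, q, δP, hP, hp, hPs, hδ⟩ := exists_projBundle_setup hX hE
  refine end_ext fun k α hα => ?_
  obtain ⟨γ, hγ⟩ := exists_chernCap hX hE hP hPs hδ α hα
  rw [chern_cls hX hE hP hPs hδ hα hγ 0, hγ.1]
  simp

end Groth.Agent.CycLib28.PB.Ops
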