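import Groth.Agent.CycLib28.PB.Ops.Laws

/-!
# The defining relation in the Chow groups and reciprocity with the Segre classes
-/

set_option autoImplicit false
set_option linter.unusedSectionVars false
set_option linter.style.haveILetI false
set_option backward.isDefEq.respectTransparency.types false

universe u

open AlgebraicGeometry CategoryTheory
open Groth.Agent.KRRPBLib Groth.Agent.Coherent Groth.Agent.PicLib Groth.Agent.CycLim28

namespace Groth.Agent.CycLib28.PB.Ops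

variable {X P : Scheme.{u}} {δ : X → ℤ} {δP : P → ℤ} {p : P ⟶ X} [IsProper p] {m : ℕ} {E : X.Modules}
  {O1 : P.Modules} {q : (Scheme.Modules.pullback p).obj E ⟶ O1}
  (hX : Cyc.IsSetup X δ) (hE : FlatMod.IsFinLocFreeOfRank (m + 1) E) (hP : KRR.IsProjBundle p E O1 q)
  (hPs : Cyc.IsSetup P δP) (hδ : Cyc.DeltaCompat p δP δ)

include hX hE hP hPs hδ in
theorem chern_relation (x : CHT X δ) :
    ∑ i : Fin (m + 2), (-1 : ℤ) ^ (i : ℕ) •
      (c1 δP O1 ^ (i : ℕ)) (pull p δP δ (m : ℤ) (chern δ E (m + 1) (Fin.rev i) x)) = 0 := by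
  haveI := hX.1
  haveI := hPs.1
  haveI := isQCoh_of_rank hE
  haveI : Flat p := flat_of_isProjBundle hE hP
  have hinv := isInvertible_of_rankOne hP.invertible
  have hcp := delta_genInFibre hE hP hPs.2.2 hδ
  suffices H : (∑ i : Fin (m + 2), (-1 : ℤ) ^ (i : ℕ) •
      AddMonoidHom.comp (c1 δP O1 ^ (i : ℕ) : AddMonoid.End (CHT P δP))
        ((pull p δP δ (m : ℤ)).comp (chern δ E (m + 1) (Fin.rev i)))) = (0 : CHT X δ →+ CHT P δP) by
    have := DFunLike.congr_fun H x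
    rw [AddMonoidHom.finsetSum_apply] at this
    exact this
  refine hom_ext fun k α hα => ?_
  obtain ⟨γ, hγ⟩ := exists_chernCap hX hE hP hPs hδ α hα
  let t : ℕ → (ξ : P) → Cyc.secFibre O1 ξ := flagSecs hE hP
  have ht : ∀ i ξ, t i ξ ≠ 0 := flagSecs_ne_zero hE hP
  choose c hc' hck using exists_rel_terms hE hP hPs.2.2 hδ k γ hγ.2.1 t ht
  have hterm : ∀ i : Fin (m + 2),
      (c1 δP O1 ^ (i : ℕ)) (pull p δP δ (m : ℤ) (chern δ E (m + 1) (Fin.rev i) (cls δ k α))) =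
        cls δP (k - 1) (c i) := fun i => by
    obtain ⟨a, ha, hak⟩ := exists_pullback hE hP hPs.2.2 hδ _ (γ (Fin.rev i)) (hγ.2.1 _)
    rw [chern_cls hX hE hP hPs hδ hα hγ, pull_cls p hPs.2.2 hX.2.2 hcp (hγ.2.1 _) ha,
      c1_pow_cls hPs.2.2 hinv hak ht (i : ℕ) (c i) (by rw [hc', ha])]
    congr 1
    rw [Fin.val_rev]
    omega
  have hz : ∀ i : Fin (m + 2), (-1 : ℤ) ^ (i : ℕ) • c i ∈ Cyc.Zk P δP (k - 1) := fun i =>
    (ChowOps.zk P δP (k - 1)).zsmul_mem (hck i) _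
  rw [AddMonoidHom.finsetSum_apply]
  show (∑ i : Fin (m + 2), (-1 : ℤ) ^ (i : ℕ) •
    (c1 δP O1 ^ (i : ℕ)) (pull p δP δ (m : ℤ) (chern δ E (m + 1) (Fin.rev i) (cls δ k α)))) = 0
  rw [Finset.sum_congr rfl fun (i : Fin (m + 2)) _ =>
      (congrArg ((-1 : ℤ) ^ (i : ℕ) • ·) (hterm i)).trans (cls_zsmul (hck i) _).symm,
    ← cls_sum _ fun i _ => hz i, ← cls_zero (δ := δP) (k - 1)]
  refine cls_congr hPs.2.2 ((ChowOps.zk P δP (k - 1)).sum_mem fun i _ => hz i) (fun _ _ => rfl) ?_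
  rw [Cyc.RatEquiv, sub_zero]
  refine hγ.2.2 t ht _ fun y => ?_
  rw [cycle_coe_sum, Finset.sum_apply, show (((m + 1 : ℕ) : ℤ) - 1) = (m : ℤ) by push_cast; ring]
  refine Finset.sum_congr rfl fun i _ => ?_
  rw [← hc' i]
  rfl

include hX hE hP hPs hδ in
theorem push_pow_pull_lt {n : ℕ} (hn : n < m) (x : CHT X δ) :
    push p δP δ ((c1 δP O1 ^ n) (pull p δP δ (m : ℤ) x)) = 0 := by
  haveI := hX.1
  haveI := hPs.1
  haveI := isQCoh_of_rank hE
  haveI : Flat p := flat_of_isProjBundle hE hP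
  have hinv := isInvertible_of_rankOne hP.invertible
  refine DFunLike.congr_fun (hom_ext
    (f := (push p δP δ).comp (AddMonoidHom.comp (c1 δP O1 ^ n : AddMonoid.End (CHT P δP)) (pull p δP δ (m : ℤ))))
    (g := 0) fun k α hα => ?_) x
  obtain ⟨a, ha, hak⟩ := exists_pullback hE hP hPs.2.2 hδ k α hα
  obtain ⟨c, hc, hck⟩ := exists_pow_cycles hPs.2.2 hinv a hak (flagSecs hE hP) (flagSecs_ne_zero hE hP)
    (fun j => Cyc.c1PowFun δP O1 (flagSecs hE hP) j ⇑a) rfl (fun _ => rfl) n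
  show push p δP δ ((c1 δP O1 ^ n) (pull p δP δ (m : ℤ) (cls δ k α))) = 0
  rw [pull_cls p hPs.2.2 hX.2.2 (delta_genInFibre hE hP hPs.2.2 hδ) hα ha,
    c1_pow_cls hPs.2.2 hinv hak (flagSecs_ne_zero hE hP) n c hc, push_cls p hPs.2.2 hX.2.2 hδ hck,
    map_pow_eq_zero hE hP hX.2.2 hPs.2.2 hδ k α hα (flagSecs hE hP)
      (fun j => Cyc.c1PowFun δP O1 (flagSecs hE hP) j ⇑a) (by rw [← ha]; rfl) (fun _ => rfl) n hn c hc, cls_zero]

include hX hE hP hPs hδ in
theorem push_pow_chern (n : ℕ) (t : Fin (m + 2)) (x : CHT X δ) :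
    push p δP δ ((c1 δP O1 ^ n) (pull p δP δ (m : ℤ) (chern δ E (m + 1) t x))) =
      chern δ E (m + 1) t (push p δP δ ((c1 δP O1 ^ n) (pull p δP δ (m : ℤ) x))) := by
  haveI := hX.1
  haveI := hPs.1
  haveI := isQCoh_of_rank hE
  haveI : Flat p := flat_of_isProjBundle hE hP
  have hinv := isInvertible_of_rankOne hP.invertible
  have hE' := Groth.Agent.VarietyLib.isFinLocFreeOfRank_pullback p hE
  rw [pull_chern p hPs hX m (hasRelDim_bundle hE hP hPs.2.2 hδ) hδ hE t x, ← push_chern p hPs hX hδ hE t]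
  exact congrArg (push p δP δ) (DFunLike.congr_fun ((c1_chern_comm hPs hinv hE' t).pow_left n).eq _)

include hX hE hP hPs hδ in
/-- `c(E) · s(E) = 1`. -/
theorem reciprocity (M : ℕ) (x : CHT X δ) :
    ∑ i ∈ Finset.range (M + 2), (if h : M + 1 - i < m + 2 then (-1 : ℤ) ^ i •
      chern δ E (m + 1) ⟨M + 1 - i, h⟩ (push p δP δ ((c1 δP O1 ^ (m + i)) (pull p δP δ (m : ℤ) x))) else 0) = 0 := by
  have h := congrArg (fun z => push p δP δ ((c1 δP O1 ^ M) z)) (chern_relation hX hE hP hPs hδ x)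
  simp only [map_sum, map_zsmul, map_zero] at h
  have hterm : ∀ i : Fin (m + 2), push p δP δ ((c1 δP O1 ^ M) ((c1 δP O1 ^ (i : ℕ))
      (pull p δP δ (m : ℤ) (chern δ E (m + 1) (Fin.rev i) x)))) =
      chern δ E (m + 1) (Fin.rev i) (push p δP δ ((c1 δP O1 ^ (M + (i : ℕ))) (pull p δP δ (m : ℤ) x))) := fun i => by
    rw [← push_pow_chern hX hE hP hPs hδ, pow_add]
    rfl
  rw [Finset.sum_congr rfl fun (i : Fin (m + 2)) _ => congrArg ((-1 : ℤ) ^ (i : ℕ) • ·) (hterm i)] at h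
  -- re-index by `a = i + M - m`
  have hsplit := (Finset.sum_filter_of_ne (s := (Finset.univ : Finset (Fin (m + 2))))
    (p := fun i : Fin (m + 2) => m ≤ M + (i : ℕ)) (f := fun i : Fin (m + 2) => (-1 : ℤ) ^ (i : ℕ) •
      chern δ E (m + 1) (Fin.rev i) (push p δP δ ((c1 δP O1 ^ (M + (i : ℕ))) (pull p δP δ (m : ℤ) x)))) ?_).trans h
  swap
  · intro i _ hne
    by_contra hlt
    exact hne (by rw [push_pow_pull_lt hX hE hP hPs hδ (by omega), map_zero, smul_zero])
  rw [← Finset.sum_filter_of_ne (p := fun a => M + 1 - a < m + 2) (fun a _ hne => by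
    by_contra hlt
    exact hne (dif_neg hlt))]
  refine Eq.trans ?_ ((congrArg (fun z => (-1 : ℤ) ^ (m + M) • z) hsplit).trans (smul_zero _))
  rw [Finset.smul_sum]
  symm
  refine Finset.sum_bij (fun i _ => M + (i : ℕ) - m) ?_ ?_ ?_ ?_
  · intro i hi
    simp only [Finset.mem_filter, Finset.mem_univ, true_and, Finset.mem_range] at hi ⊢
    have := i.isLt
    omega
  · intro i hi j hj e
    simp only [Finset.mem_filter, Finset.mem_univ, true_and] at hi hj
    exact Fin.ext (by omega)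
  · intro a ha
    simp only [Finset.mem_filter, Finset.mem_range] at ha
    refine ⟨⟨m + a - M, by omega⟩, ?_, ?_⟩
    · simp only [Finset.mem_filter, Finset.mem_univ, true_and]
      omega
    · show M + (m + a - M) - m = a
      omega
  · intro i hi
    simp only [Finset.mem_filter, Finset.mem_univ, true_and] at hi
    have := i.isLt
    rw [dif_pos (by omega), smul_smul, show m + (M + (i : ℕ) - m) = M + (i : ℕ) by omega]
    congr 1
    · rw [← pow_add, neg_one_pow_eq_pow_mod_two, neg_one_pow_eq_pow_mod_two (n := M + (i : ℕ) - m)]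
      congr 1
      omega
    · congr 2
      exact Fin.ext (by rw [Fin.val_rev]; simp only; omega)

end Groth.Agent.CycLib28.PB.Ops
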