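import Groth.Agent.CycLib28.PB.SubLine
import Groth.Agent.KRRPBLib.Basic
import Groth.Agent.DCat.FlatPull
import Groth.Agent.FinCovLib29.Basis
import Mathlib.CategoryTheory.Abelian.Refinements

/-!
# Extensions and quotients of finite locally free modules
-/

set_option autoImplicit false
set_option linter.unusedSectionVars false
set_option linter.style.haveILetI false
set_option backward.isDefEq.respectTransparency.types false

universe u

open AlgebraicGeometry CategoryTheory CategoryTheory.Limits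
open Groth.Agent.Coherent Groth.Agent.PicLib

namespace Groth.Agent.CycLib28.PB.Ops

variable {X Y : Scheme.{u}}

theorem nonempty_restrict_iso_of_basis {M : X.Modules} [Coh.IsQCoh M] {U : X.Opens} (hU : IsAffineOpen U) {n : ℕ}
    (b : Module.Basis (Fin n) Γ(X, U) Γ(M, U)) : Nonempty (M.restrict U.ι ≅ FlatMod.freeMod U.toScheme n) := by
  haveI : IsAffine U.toScheme := hU
  haveI := H8Coh.isQCoh_restrictOpen U M
  obtain ⟨b'⟩ := Props12.exists_basis_restrict_top M U b
  exact Props12.exists_iso_freeMod_of_basis _ b'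

/-- An extension of finite locally free modules is finite locally free. -/
theorem isFinLocFreeOfRank_extension {a c : ℕ} {K E F : X.Modules} {f : K ⟶ E} {g : E ⟶ F} {hfg : f ≫ g = 0}
    (hex : (ShortComplex.mk f g hfg).ShortExact) (hK : FlatMod.IsFinLocFreeOfRank a K)
    (hF : FlatMod.IsFinLocFreeOfRank c F) : FlatMod.IsFinLocFreeOfRank (a + c) E := by
  classical
  haveI : Coh.IsQCoh (ShortComplex.mk f g hfg).X₁ := isQCoh_of_rank hK
  haveI : Coh.IsQCoh (ShortComplex.mk f g hfg).X₃ := isQCoh_of_rank hF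
  haveI : Coh.IsQCoh E := isQCoh_X₂ hex
  intro x
  obtain ⟨V, hx, ⟨eK⟩⟩ := hK x
  obtain ⟨V', hx', ⟨eF⟩⟩ := hF x
  obtain ⟨W, hW, hxW, hWV⟩ := TopologicalSpace.Opens.isBasis_iff_nbhd.1 X.isBasis_affineOpens
    (show x ∈ V ⊓ V' from ⟨hx, hx'⟩)
  obtain ⟨bK⟩ := Props12.exists_basis_sections eK (hWV.trans inf_le_left)
  obtain ⟨bF⟩ := Props12.exists_basis_sections eF (hWV.trans inf_le_right)
  choose e he using fun i => sections_surjective hex hW (bF i)
  let v : Fin a ⊕ Fin c → Γ(E, W) := Sum.elim (fun i => f.app W (bK i)) e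
  have hli : LinearIndependent Γ(X, W) v := Fintype.linearIndependent_iff.2 fun co hco => by
    rw [Fintype.sum_sum_type] at hco
    simp only [v, Sum.elim_inl, Sum.elim_inr] at hco
    have h1 := congrArg (g.app W) hco
    rw [map_add, map_sum, map_sum, map_zero] at h1
    have h0 : ∀ i, g.app W (co (Sum.inl i) • f.app W (bK i)) = 0 := fun i => by
      rw [Scheme.Modules.Hom.app_smul]
      exact (congrArg _ (sections_zero (S := ShortComplex.mk f g hfg) W (bK i))).trans (smul_zero _)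
    rw [Finset.sum_eq_zero (fun i _ => h0 i), zero_add] at h1
    have h2 : ∀ i, co (Sum.inr i) = 0 := Fintype.linearIndependent_iff.1 bF.linearIndependent _ (by
      rw [← h1]
      exact Finset.sum_congr rfl fun i _ => by rw [Scheme.Modules.Hom.app_smul]; exact congrArg _ (he i).symm)
    rintro (i | i)
    · rw [Finset.sum_eq_zero (s := Finset.univ) (f := fun i => co (Sum.inr i) • e i)
        (fun i _ => by rw [h2 i, zero_smul]), add_zero] at hco
      refine Fintype.linearIndependent_iff.1 bK.linearIndependent (fun i => co (Sum.inl i))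
        (sections_injective hex W ?_) i
      refine Eq.trans ?_ (map_zero (f.app W).hom).symm
      rw [← hco, map_sum]
      exact Finset.sum_congr rfl fun i _ => Scheme.Modules.Hom.app_smul _ _ _
    · exact h2 i
  have hsp : ⊤ ≤ Submodule.span Γ(X, W) (Set.range v) := fun s _ => by
    obtain ⟨t, ht⟩ := sections_exact hex (s - ∑ i, bF.repr (g.app W s) i • e i) (by
      show g.app W _ = 0
      rw [map_sub, map_sum]
      refine sub_eq_zero.2 ((bF.sum_repr (g.app W s)).symm.trans (Finset.sum_congr rfl fun i _ => ?_))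
      rw [Scheme.Modules.Hom.app_smul]
      exact congrArg _ (he i).symm)
    refine (Submodule.mem_span_range_iff_exists_fun _).2
      ⟨Sum.elim (fun i => bK.repr t i) (fun i => bF.repr (g.app W s) i), ?_⟩
    rw [Fintype.sum_sum_type]
    simp only [v, Sum.elim_inl, Sum.elim_inr]
    have e1 : ∑ i, bK.repr t i • f.app W (bK i) = f.app W t := by
      conv_rhs => rw [← bK.sum_repr t, map_sum]
      exact Finset.sum_congr rfl fun i _ => (Scheme.Modules.Hom.app_smul _ _ _).symm
    rw [e1]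
    exact (congrArg (· + _) ht).trans (sub_add_cancel _ _)
  exact ⟨W, hxW, nonempty_restrict_iso_of_basis hW ((Module.Basis.mk hli hsp).reindex finSumFinEquiv)⟩

/-- The kernel of an epimorphism onto an invertible module. -/
theorem isFinLocFreeOfRank_kernel_line {m : ℕ} {E L : X.Modules} (hE : FlatMod.IsFinLocFreeOfRank (m + 1) E)
    (hL : PicF.IsInvertible L) (g : E ⟶ L) [Epi g] : FlatMod.IsFinLocFreeOfRank m (kernel g) := by
  classical
  intro x
  obtain ⟨U₁, e', hx₁, hb'⟩ := FinCovLib29.exists_isBasisOn_of_rank hE x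
  obtain ⟨V, hxV, l₀, hl₀⟩ := PicLib.exists_isGen hL x
  let U : X.Opens := U₁ ⊓ V
  have hxU : x ∈ U := ⟨hx₁, hxV⟩
  have hb := FinCovLib29.isBasisOn_restrict hb' (inf_le_left : U ≤ U₁)
  obtain ⟨e, he⟩ : ∃ e : Fin (m + 1) → Γ(E, U), ∀ i, e i = resM E (inf_le_left : U ≤ U₁) (e' (ULift.up i)) :=
    ⟨_, fun _ => rfl⟩
  have hbe : ∀ {W : X.Opens} (h : W ≤ U), Function.Bijective
      fun c : Fin (m + 1) → Γ(X, W) => ∑ i, c i • resM E h (e i) := fun {W} h => by
    convert (hb h).comp (Equiv.arrowCongr Equiv.ulift.symm (Equiv.refl Γ(X, W))).bijective using 1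
    funext c
    simp only [he]
    exact (Fintype.sum_equiv Equiv.ulift _ _ fun i => rfl).symm
  obtain ⟨l, hl⟩ : ∃ l : Γ(L, U), IsGen L U l := ⟨_, hl₀.restrict (inf_le_right : U ≤ V)⟩
  obtain ⟨co, hco⟩ : ∃ co : Fin (m + 1) → Γ(X, U), ∀ i, co i • l = g.app U (e i) :=
    ⟨fun i => hl.coef le_rfl (g.app U (e i)), fun i => by
      have := hl.coef_spec le_rfl (g.app U (e i))
      rwa [resM_self] at this⟩
  have hexp : ∀ {W : X.Opens} (h : W ≤ U) (c : Fin (m + 1) → Γ(X, W)),
      g.app W (∑ i, c i • resM E h (e i)) = (∑ i, c i * res h (co i)) • resM L h l := fun h c => by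
    rw [map_sum, Finset.sum_smul]
    refine Finset.sum_congr rfl fun i _ => ?_
    rw [Scheme.Modules.Hom.app_smul, app_resM, ← hco, resM_smul, mul_smul]
  obtain ⟨i₀, hi₀⟩ : ∃ i, x ∈ X.basicOpen (co i) := by
    by_contra hcon
    push Not at hcon
    obtain ⟨v, hv⟩ := (ModuleCat.epi_iff_surjective ((DerSch.stalkFunctor X x).map g)).1 inferInstance
      (L.presheaf.germ U x hxU l)
    obtain ⟨W₀, hxW₀, s, rfl⟩ := E.presheaf.exists_germ_eq v
    obtain ⟨c, hc⟩ := (hbe (inf_le_left : U ⊓ W₀ ≤ U)).2 (resM E inf_le_right s)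
    have h1 := congrArg (L.presheaf.germ (U ⊓ W₀) x ⟨hxU, hxW₀⟩) ((congrArg (g.app (U ⊓ W₀)) hc).symm.trans
      (hexp (inf_le_left : U ⊓ W₀ ≤ U) c))
    have hmap : ∀ {W : X.Opens} (hy : x ∈ W) (s : Γ(E, W)),
        (DerSch.stalkFunctor X x).map g (E.presheaf.germ W x hy s) = L.presheaf.germ W x hy (g.app W s) :=
      fun hy s => TopCat.Presheaf.stalkFunctor_map_germ_apply _ x hy g.mapPresheaf s
    rw [← hmap,
      show E.presheaf.germ (U ⊓ W₀) x ⟨hxU, hxW₀⟩ (resM E inf_le_right s) = E.presheaf.germ W₀ x hxW₀ s from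
        TopCat.Presheaf.germ_res_apply _ (homOfLE inf_le_right) x ⟨hxU, hxW₀⟩ _, QCohLoc.germ_smul',
      show L.presheaf.germ (U ⊓ W₀) x ⟨hxU, hxW₀⟩ (resM L inf_le_left l) = L.presheaf.germ U x hxU l from
        TopCat.Presheaf.germ_res_apply _ (homOfLE inf_le_left) x ⟨hxU, hxW₀⟩ _] at h1
    replace h1 := hv.symm.trans h1
    have h2 : (1 : X.presheaf.stalk x) = X.presheaf.germ (U ⊓ W₀) x ⟨hxU, hxW₀⟩ (∑ i, c i * res inf_le_left (co i)) :=
      (VarietyLib.gen_germ_bijective hl hxU).1 ((one_smul _ _).trans h1)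
    rw [map_sum] at h2
    refine IsLocalRing.notMem_maximalIdeal.2 (isUnit_one (M := X.presheaf.stalk x)) (h2 ▸ Ideal.sum_mem _ fun i _ => ?_)
    rw [map_mul]
    refine Ideal.mul_mem_left _ _ ((IsLocalRing.mem_maximalIdeal _).2 fun hu => hcon i ?_)
    rw [X.mem_basicOpen _ x hxU]
    rwa [res, TopCat.Presheaf.germ_res_apply] at hu
  let O : X.Opens := X.basicOpen (co i₀)
  have hOU : O ≤ U := X.basicOpen_le _
  obtain ⟨u, hu⟩ : IsUnit (res hOU (co i₀)) := X.toRingedSpace.isUnit_res_basicOpen (co i₀)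
  have hκ : ∀ j : ULift.{u} (Fin m), ∃ k : Γ(kernel g, O), (kernel.ι g).app O k =
      resM E hOU (e (i₀.succAbove j.down)) -
        (res hOU (co (i₀.succAbove j.down)) * (↑u⁻¹ : Γ(X, O))) • resM E hOU (e i₀) := fun j => by
    refine kernel_sections_exact g _ ?_
    rw [map_sub, Scheme.Modules.Hom.app_smul, app_resM, app_resM, ← hco, ← hco, resM_smul, resM_smul, smul_smul,
      mul_assoc, ← hu, Units.inv_mul, mul_one, sub_self]
  choose κ hκ' using hκ
  refine ⟨O, hi₀, FinCovLib29.nonempty_iso_of_isBasisOn (e := κ) fun W hW => ?_⟩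
  -- coefficients in the ambient module
  let w : Γ(X, W) := res hW (↑u⁻¹ : Γ(X, O))
  have hw : res (hW.trans hOU) (co i₀) * w = 1 := by
    have := congrArg (res hW) (Units.mul_inv u)
    rw [map_mul, map_one, hu, PicLib.res_res] at this
    exact this
  let C : (ULift.{u} (Fin m) → Γ(X, W)) → Fin (m + 1) → Γ(X, W) := fun c =>
    i₀.insertNth (α := fun _ => Γ(X, W))
      (-(w * ∑ j : Fin m, c (ULift.up j) * res (hW.trans hOU) (co (i₀.succAbove j)))) fun j => c (ULift.up j)
  have hC : ∀ c, (kernel.ι g).app W (∑ j, c j • resM (kernel g) hW (κ j)) =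
      ∑ i, C c i • resM E (hW.trans hOU) (e i) := fun c => by
    rw [map_sum, Fin.sum_univ_succAbove _ i₀]
    simp only [C, Fin.insertNth_apply_same, Fin.insertNth_apply_succAbove]
    rw [← Fintype.sum_equiv Equiv.ulift.symm
      (fun j : Fin m => (kernel.ι g).app W (c (ULift.up j) • resM (kernel g) hW (κ (ULift.up j)))) _ fun _ => rfl,
      Finset.mul_sum, neg_smul, Finset.sum_smul, ← Finset.sum_neg_distrib, ← Finset.sum_add_distrib]
    refine Finset.sum_congr rfl fun j _ => ?_
    rw [Scheme.Modules.Hom.app_smul, app_resM, hκ', map_sub, resM_smul, resM_resM, resM_resM, smul_sub, map_mul,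
      PicLib.res_res, smul_smul, sub_eq_neg_add]
    congr 2
    ring_nf
    rfl
  refine ⟨fun c c' h => ?_, fun k => ?_⟩
  · have h1 := congrArg ((kernel.ι g).app W) h
    simp only [hC] at h1
    have h2 := (hbe (hW.trans hOU)).1 h1
    funext j
    simpa [C] using congrFun h2 (i₀.succAbove j.down)
  · obtain ⟨d, hd⟩ := (hbe (hW.trans hOU)).2 ((kernel.ι g).app W k)
    refine ⟨fun j => d (i₀.succAbove j.down), app_injective_of_mono (kernel.ι g) W ?_⟩
    rw [hC]
    refine Eq.trans (Finset.sum_congr rfl fun i _ => ?_) hd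
    congr 1
    rcases Fin.eq_self_or_eq_succAbove i₀ i with rfl | ⟨j, rfl⟩
    · simp only [C, Fin.insertNth_apply_same]
      have h0 := kernel_ι_app_zero g W k
      rw [← hd, hexp] at h0
      have h1 : ∑ t, d t * res (hW.trans hOU) (co t) = 0 := by
        refine ((hl.restrict (hW.trans hOU)) W le_rfl).1 ?_
        simpa only [resM_self, zero_smul] using h0
      rw [Fin.sum_univ_succAbove _ i] at h1
      rw [eq_neg_of_add_eq_zero_right h1, mul_neg, neg_neg, mul_comm (d i), ← mul_assoc, mul_comm w, hw, one_mul]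
    · simp [C]

/-- Exactness is preserved by flat pullback. -/
theorem shortExact_pullback (f : Y ⟶ X) [Flat f] {A B C : X.Modules} {a : A ⟶ B} {b : B ⟶ C} {hab : a ≫ b = 0}
    (h : (ShortComplex.mk a b hab).ShortExact) :
    (ShortComplex.mk ((Scheme.Modules.pullback f).map a) ((Scheme.Modules.pullback f).map b)
      (by rw [← Functor.map_comp, hab]; exact Functor.map_zero _ _ _)).ShortExact :=
  h.map_of_exact (Scheme.Modules.pullback f)

/-- For `K ⊆ E₁ ⊆ E₂` the quotient `E₂ / K` is an extension of `E₂ / E₁` by `E₁ / K`. -/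
theorem exists_quotient_extension {K E₁ E₂ E₃ L : X.Modules} {c : K ⟶ E₁} {b₁ : E₁ ⟶ L} {hcb : c ≫ b₁ = 0}
    (h₁ : (ShortComplex.mk c b₁ hcb).ShortExact) {a : E₁ ⟶ E₂} {b : E₂ ⟶ E₃} {hab : a ≫ b = 0}
    (h₂ : (ShortComplex.mk a b hab).ShortExact) :
    ∃ (G : X.Modules) (pr : E₂ ⟶ G) (u : L ⟶ G) (v : G ⟶ E₃) (h : (c ≫ a) ≫ pr = 0) (huv : u ≫ v = 0),
      (ShortComplex.mk (c ≫ a) pr h).ShortExact ∧ (ShortComplex.mk u v huv).ShortExact := by
  haveI : Mono c := h₁.mono_f
  haveI : Mono a := h₂.mono_f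
  haveI : Epi b₁ := h₁.epi_g
  haveI : Epi b := h₂.epi_g
  let pr := cokernel.π (c ≫ a)
  have hc : c ≫ a ≫ pr = 0 := by rw [← Category.assoc]; exact cokernel.condition _
  obtain ⟨u, hu⟩ := CokernelCofork.IsColimit.desc' h₁.gIsCokernel (a ≫ pr) hc
  replace hu : b₁ ≫ u = a ≫ pr := hu
  let v : cokernel (c ≫ a) ⟶ E₃ := cokernel.desc (c ≫ a) b (by rw [Category.assoc, hab, comp_zero])
  have hv : pr ≫ v = b := cokernel.π_desc _ _ _
  have huv : u ≫ v = 0 := by
    rw [← cancel_epi b₁, ← Category.assoc, hu, Category.assoc, hv, hab, comp_zero]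
  haveI : Mono u := Preadditive.mono_of_cancel_zero _ fun {T} x hx => by
    obtain ⟨T', e, he, y, hy⟩ := surjective_up_to_refinements_of_epi b₁ x
    have h0 : (y ≫ a) ≫ pr = 0 := by rw [Category.assoc, ← hu, ← Category.assoc, ← hy, Category.assoc, hx, comp_zero]
    obtain ⟨T'', e', he', z, hz⟩ :=
      (ShortComplex.exact_cokernel (c ≫ a)).exact_up_to_refinements (y ≫ a) h0
    have h1 : e' ≫ y = z ≫ c := by
      rw [← cancel_mono a, Category.assoc, Category.assoc]
      exact hz
    haveI := he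
    haveI := he'
    rw [← cancel_epi e, ← cancel_epi e', hy, ← Category.assoc, h1, Category.assoc, hcb]
    simp
  haveI : Epi (pr ≫ v) := by rw [hv]; infer_instance
  haveI : Epi v := epi_of_epi pr v
  refine ⟨cokernel (c ≫ a), pr, u, v, cokernel.condition _, huv,
    { exact := ShortComplex.exact_cokernel _ }, { exact := ShortComplex.exact_of_g_is_cokernel _ ?_ }⟩
  have hex : ∀ {T : X.Modules} (w : cokernel (c ≫ a) ⟶ T), u ≫ w = 0 → ∃ t : E₃ ⟶ T, v ≫ t = w := fun {T} w hw => by
    obtain ⟨t, ht⟩ := CokernelCofork.IsColimit.desc' h₂.gIsCokernel (pr ≫ w) (by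
      rw [← Category.assoc, ← hu, Category.assoc, hw, comp_zero])
    refine ⟨t, ?_⟩
    rw [← cancel_epi pr, ← Category.assoc, hv]
    exact ht
  exact CokernelCofork.IsColimit.ofπ _ _ (fun w hw => (hex w hw).choose) (fun w hw => (hex w hw).choose_spec)
    fun w hw m hm => by
      rw [← cancel_epi v, hm, (hex w hw).choose_spec]

end Groth.Agent.CycLib28.PB.Ops
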