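import Groth.Agent.SerreDual.ExtShBasic
import Groth.Agent.ExtSS.ProjFormula
import Groth.Agent.CycLib28.PB.Ops.LocFree

/-!
# Duals of locally free modules: exact sequences, rank, pullback
-/

set_option autoImplicit false
set_option linter.style.haveILetI false
set_option backward.isDefEq.respectTransparency.types false

universe u

open CategoryTheory CategoryTheory.Limits AlgebraicGeometry Opposite TopologicalSpace
open Groth.Agent.Coherent Groth.Agent.PicLib Groth.Agent.AmpleLib Groth.Agent.Coherent.CohBC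

namespace Groth.Agent.CycLib28.PB.Ops

variable {X : Scheme.{u}}

/-- The dual. -/
noncomputable abbrev dual (E : X.Modules) : X.Modules := internalHom E (Coh.structureModule X)

theorem nonempty_dual_congr {A B : X.Modules} (i : A ≅ B) : Nonempty (dual B ≅ dual A) :=
  ⟨{ hom := SerreDual.precompApp i.hom _
     inv := SerreDual.precompApp i.inv _
     hom_inv_id := by rw [← SerreDual.precompApp_comp, i.inv_hom_id, SerreDual.precompApp_id]
     inv_hom_id := by rw [← SerreDual.precompApp_comp, i.hom_inv_id, SerreDual.precompApp_id] }⟩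

theorem nonempty_pullback_dual {Y : Scheme.{u}} (f : Y ⟶ X) {E : X.Modules} (hE : FlatMod.IsFinLocFree E) :
    Nonempty ((Scheme.Modules.pullback f).obj (dual E) ≅ dual ((Scheme.Modules.pullback f).obj E)) := by
  haveI := isIso_pullHom E (Coh.structureModule X) f hE (isFinLocFree_structureModule X)
  obtain ⟨e⟩ := AmpleLib.exists_pullStructureIso f
  exact ⟨asIso (pullHom E (Coh.structureModule X) f) ≪≫ (internalHomFunctor _).mapIso e⟩

theorem isFinLocFreeOfRank_dual {r : ℕ} {E : X.Modules} (hE : FlatMod.IsFinLocFreeOfRank r E) :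
    FlatMod.IsFinLocFreeOfRank r (dual E) := by
  classical
  have hE' : FlatMod.IsFinLocFree E := fun x => let ⟨U, hx, h⟩ := hE x; ⟨U, r, hx, h⟩
  haveI := isQCoh_internalHom hE' (isFinLocFree_structureModule X)
  intro x
  obtain ⟨VE, hxE, ⟨eE⟩⟩ := hE x
  obtain ⟨U, n, e, hxU, he⟩ := exists_isBasisOn hE' x
  obtain ⟨U', k, d, hxU', hd⟩ := exists_isBasisOn (isFinLocFree_structureModule X) x
  obtain ⟨W, hW, hxW, hWle⟩ := TopologicalSpace.Opens.isBasis_iff_nbhd.1 X.isBasis_affineOpens
    (show x ∈ U ⊓ VE ⊓ U' from ⟨⟨hxU, hxE⟩, hxU'⟩)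
  obtain ⟨bE⟩ := Props12.exists_basis_sections eE (hWle.trans (inf_le_left.trans inf_le_right))
  haveI : Nonempty (Scheme.Opens.toScheme (W : X.Opens)) := ⟨⟨x, hxW⟩⟩
  have heW := CAlgH3.LocFreeFactor.IsBasisOn.mono he (hWle.trans (inf_le_left.trans inf_le_left))
  have hdW := CAlgH3.LocFreeFactor.IsBasisOn.mono hd (hWle.trans inf_le_right)
  have hn : n = r := by simpa using Fintype.card_congr ((moduleBasisOfIsBasisOn heW).indexEquiv bE)
  have hk : k = 1 := by
    haveI : Nonempty (W : Set X) := ⟨⟨x, hxW⟩⟩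
    let b1 : Module.Basis (Fin 1) Γ(X, W) Γ(Coh.structureModule X, W) :=
      Module.Basis.ofEquivFun (LinearEquiv.funUnique (Fin 1) Γ(X, W) Γ(X, W)).symm
    simpa using Fintype.card_congr ((moduleBasisOfIsBasisOn hdW).indexEquiv b1)
  subst hn hk
  exact ⟨W, hxW, nonempty_restrict_iso_of_basis hW
    ((moduleBasisOfIsBasisOn (isBasisOn_elemHom heW hdW)).reindex (Fintype.equivFinOfCardEq (by simp)))⟩

/-- Duals of short exact sequences of locally free modules. -/
theorem shortExact_dual {A B C : X.Modules} {f : A ⟶ B} {g : B ⟶ C} {hfg : f ≫ g = 0}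
    (hS : (ShortComplex.mk f g hfg).ShortExact) {a c : ℕ} (hA : FlatMod.IsFinLocFreeOfRank a A)
    (hC : FlatMod.IsFinLocFreeOfRank c C) :
    (ShortComplex.mk (SerreDual.precompApp g (Coh.structureModule X)) (SerreDual.precompApp f (Coh.structureModule X))
      (by rw [← SerreDual.precompApp_comp, hfg, SerreDual.precompApp_zero])).ShortExact := by
  classical
  let S := ShortComplex.mk f g hfg
  haveI : Epi g := hS.epi_g
  haveI hm : Mono (SerreDual.precompApp g (Coh.structureModule X)) := SerreDual.mono_precompApp g _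
  let I := Coh.structureModule X
  refine { exact := ?_, mono_f := hm, epi_g := ?_ }
  · refine ShortComplex.exact_of_f_is_kernel _ (KernelFork.IsLimit.ofι' _ _ fun {T} φ hφ => ?_)
    let β : CohB1.tensorMod T S.X₂ ⟶ I := (SerreDual.bilinSwap (uncurry φ)).desc
    have hβ : (tensE T).map S.f ≫ β = 0 := AmpleLib.hom_ext fun U t x => by
      show β.app U ((tE T S.f).app U (tmul t x)) = (0 : CohB1.tensorMod T S.X₁ ⟶ I).app U (tmul t x)
      rw [tensE_map_tmul, Bilin.desc_tmul]
      exact congrArg (fun ψ : T ⟶ internalHom S.X₁ I => ev (secHom (ψ.app U t)) U le_rfl x) hφ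
    have hex := (CokernelCofork.mapIsColimit _ hS.gIsCokernel (tensE T))
    let γ : CohB1.tensorMod T S.X₃ ⟶ I := (CokernelCofork.IsColimit.desc' hex β hβ).1
    have hγ : (tensE T).map S.g ≫ γ = β := (CokernelCofork.IsColimit.desc' hex β hβ).2
    refine ⟨curry (SerreDual.bilinSwap (bilinOfHom γ)), Scheme.Modules.hom_ext _ _ fun U =>
      ConcreteCategory.hom_ext _ _ fun t => ?_⟩
    refine locHom_ext (φ := secHom _) (ψ := secHom (φ.app U t)) fun W hW x => ?_
    show γ.app W (tmul (resM T hW t) (S.g.app W x)) = _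
    rw [← tensE_map_tmul]
    refine (congrArg (fun ψ : CohB1.tensorMod T S.X₂ ⟶ I => ψ.app W (tmul (resM T hW t) x)) hγ).trans ?_
    show β.app W (tmul (resM T hW t) x) = _
    rw [Bilin.desc_tmul]
    show ev (secHom (φ.app W (resM T hW t))) W le_rfl x = _
    rw [app_resM]
    rfl
  · haveI : Coh.IsQCoh S.X₁ := CycLib28.PB.isQCoh_of_rank hA
    refine epi_of_locally_surjective _ fun U ψ y hy => ?_
    obtain ⟨V, n, e, hyV, hb⟩ := exists_isBasisOn
      (fun z => let ⟨O, hz, h⟩ := hC z; ⟨O, c, hz, h⟩ : FlatMod.IsFinLocFree C) y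
    obtain ⟨W, hW, hyW, hWle⟩ := TopologicalSpace.Opens.isBasis_iff_nbhd.1 X.isBasis_affineOpens
      (show y ∈ U ⊓ V from ⟨hy, hyV⟩)
    have hWU : W ≤ U := hWle.trans inf_le_left
    have hbW := CAlgH3.LocFreeFactor.IsBasisOn.mono hb (hWle.trans inf_le_right)
    choose e' he' using fun i => sections_surjective (S := S) hS hW (resM C (hWle.trans inf_le_right) (e i))
    let red : ∀ W' : X.Opens, W' ≤ W → Γ(B, W') → Γ(B, W') := fun W' h x =>
      x - ∑ i, hbW.coef h (g.app W' x) i • resM B h (e' i)
    have hker : ∀ (W' : X.Opens) (h : W' ≤ W) x, g.app W' (red W' h x) = 0 := by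
      intro W' h x
      rw [map_sub, map_sum, sub_eq_zero]
      refine (hbW.coef_spec h (g.app W' x)).symm.trans (Finset.sum_congr rfl fun i _ => ?_)
      rw [Scheme.Modules.Hom.app_smul, app_resM]
      exact congrArg _ (congrArg _ (he' i).symm)
    choose t ht using fun (W' : X.Opens) (h : W' ≤ W) x =>
      sections_exact (S := S) hS (red W' h x) (hker W' h x)
    have hinj : ∀ W' : X.Opens, Function.Injective (f.app W') := fun W' => sections_injective (S := S) hS W'
    have htadd : ∀ (W' : X.Opens) (h : W' ≤ W) x x', t W' h (x + x') = t W' h x + t W' h x' := fun W' h x x' =>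
      hinj W' (by
        rw [map_add]
        show S.f.app W' _ = S.f.app W' _ + S.f.app W' _
        rw [ht, ht, ht]
        simp only [red, map_add, hbW.coef_add, Pi.add_apply, add_smul, Finset.sum_add_distrib]
        abel)
    have htsmul : ∀ (W' : X.Opens) (h : W' ≤ W) (r : Γ(X, W')) x, t W' h (r • x) = r • t W' h x :=
      fun W' h r x => hinj W' (by
        rw [Scheme.Modules.Hom.app_smul]
        show S.f.app W' _ = r • S.f.app W' _
        rw [ht, ht]
        simp only [red, Scheme.Modules.Hom.app_smul, hbW.coef_smul, mul_smul, smul_sub, Finset.smul_sum])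
    have htres : ∀ (W' W'' : X.Opens) (h : W' ≤ W) (h' : W'' ≤ W') x,
        resM A h' (t W' h x) = t W'' (h'.trans h) (resM B h' x) := fun W' W'' h h' x => hinj W'' (by
        rw [app_resM]
        show resM B h' (S.f.app W' _) = S.f.app W'' _
        rw [ht, ht]
        simp only [red, map_sub, map_sum, app_resM, hbW.coef_res h h', resM_smul, resM_resM])
    refine ⟨W, hWU, hyW, (show locHom S.X₂ I W from
      ⟨fun W' h => AddMonoidHom.mk' (fun x => ev (secHom ψ) W' (h.trans hWU) (t W' h x)) (fun x x' => by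
          rw [htadd]; exact map_add ((secHom ψ).1 W' _) _ _),
        fun W' h r x => by
          show ev _ W' _ (t W' h (r • x)) = r • ev _ W' _ (t W' h x)
          rw [htsmul, ev_smul_arg],
        fun W' W'' h h' x => by
          show resM I h' (ev _ W' _ (t W' h x)) = ev _ W'' _ (t W'' _ (resM B h' x))
          rw [ev_res, htres]⟩), ?_⟩
    refine locHom_ext (φ := secHom _) (ψ := secHom _) fun W' h x => ?_
    refine Eq.trans ?_ (resM_internalHom hWU ψ W' h x).symm
    show ev (secHom ψ) W' _ (t W' h (f.app W' x)) = _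
    congr 1
    refine hinj W' ?_
    show S.f.app W' _ = _
    rw [ht]
    have h0 : g.app W' (f.app W' x) = 0 := sections_zero (S := S) W' x
    have hc0 : hbW.coef h (0 : Γ(C, W')) = 0 := hbW.coef_eq _ (by simp)
    simp only [red, h0, hc0, Pi.zero_apply, zero_smul, Finset.sum_const_zero, sub_zero]

end Groth.Agent.CycLib28.PB.Ops
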