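import Groth.Agent.CycLib28.PB.Ops.TensorCalc

/-!
# The second Chern class of a tensor product
-/

set_option autoImplicit false
set_option linter.unusedSectionVars false
set_option linter.style.haveILetI false
set_option backward.isDefEq.respectTransparency.types false

universe u

open AlgebraicGeometry CategoryTheory CategoryTheory.Limits
open Groth.Agent.KRRPBLib Groth.Agent.Coherent Groth.Agent.PicLib Groth.Agent.CycLim28

namespace Groth.Agent.CycLib28.PB.Ops

variable {X : Scheme.{u}} {δ : X → ℤ}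

theorem coeff_mul_two {R : Type*} [Semiring R] (f g : Polynomial R) :
    (f * g).coeff 2 = f.coeff 0 * g.coeff 2 + f.coeff 1 * g.coeff 1 + f.coeff 2 * g.coeff 0 := by
  rw [Polynomial.coeff_mul, Finset.Nat.sum_antidiagonal_eq_sum_range_succ
    (fun i j => f.coeff i * g.coeff j), Finset.sum_range_succ, Finset.sum_range_succ, Finset.sum_range_one]

theorem coeff_line_two {R : Type*} [Ring R] (a : R) : (1 + Polynomial.C a * Polynomial.X).coeff 2 = 0 := by
  simp [Polynomial.coeff_one, Polynomial.coeff_X]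

theorem two_mul_choose_two : ∀ n : ℕ, 2 * ((n.choose 2 : ℕ) : ℤ) = (n : ℤ) * ((n : ℤ) - 1)
  | 0 => by simp
  | n + 1 => by
    rw [Nat.choose_succ_succ', Nat.choose_one_right, Nat.cast_add, mul_add, two_mul_choose_two n]
    push_cast
    ring

theorem two_tensor_algebra {R : Type*} [Ring R] {a k₁ k₂ f₁ f₂ : R} (r s : ℕ) (h₁ : Commute f₁ k₁)
    (h₂ : Commute a k₁) (h₃ : Commute a f₁) :
    (f₂ + ((s : ℤ) - 1) • (f₁ * a) + ((s.choose 2 : ℕ) : ℤ) • (a * a)) +
      ((r : ℤ) • f₁ + (s : ℤ) • k₁) * (f₁ + (s : ℤ) • a) +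
      ((r : ℤ) • f₂ + (s : ℤ) • k₂ + ((r.choose 2 : ℕ) : ℤ) • (f₁ * f₁) + ((r : ℤ) * s - 1) • (k₁ * f₁) +
        ((s.choose 2 : ℕ) : ℤ) • (k₁ * k₁)) =
    (((r + 1 : ℕ) : ℕ) : ℤ) • f₂ + (s : ℤ) • (k₁ * a + k₂) + (((r + 1).choose 2 : ℕ) : ℤ) • (f₁ * f₁) +
      (((r + 1 : ℕ) : ℤ) * s - 1) • ((a + k₁) * f₁) + ((s.choose 2 : ℕ) : ℤ) • ((a + k₁) * (a + k₁)) := by
  simp only [mul_add, add_mul, smul_mul_assoc, mul_smul_comm, h₁.eq, h₂.eq, h₃.eq, smul_add, smul_smul]
  have hs := two_mul_choose_two s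
  have hr : (((r + 1).choose 2 : ℕ) : ℤ) = (r.choose 2 : ℕ) + r := by
    rw [Nat.choose_succ_succ', Nat.choose_one_right]
    push_cast
    ring
  rw [hr]
  match_scalars <;> first | linear_combination hs | linear_combination -hs | (push_cast; ring)

open Polynomial in
theorem coeff_two_tensor_line {r : ℕ} (hX : Cyc.IsSetup X δ) {E L : X.Modules}
    (hE : FlatMod.IsFinLocFreeOfRank r E) (hL : PicF.IsInvertible L) :
    (cPoly δ (CohB1.tensorMod E L) r).coeff 2 = (cPoly δ E r).coeff 2 +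
      ((r : ℤ) - 1) • ((cPoly δ E r).coeff 1 * c1 δ L) + ((r.choose 2 : ℕ) : ℤ) • (c1 δ L * c1 δ L) := by
  rw [cPoly_tensor_line r hX hE hL, coeff_tw_of_le _ (fun i hi => coeff_cPoly_of_lt E hi), Finset.sum_range_succ,
    Finset.sum_range_succ, Finset.sum_range_one, coeff_cPoly_zero hX hE]
  rcases Nat.eq_zero_or_pos r with rfl | hr
  · rw [coeff_cPoly_of_lt E (show 0 < 1 by omega), coeff_cPoly_of_lt E (show 0 < 2 by omega)]
    simp
  · simp only [Nat.sub_zero, one_mul, pow_two, Nat.reduceSub, Nat.choose_one_right, pow_one, Nat.choose_zero_right,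
      pow_zero, mul_one, one_smul]
    rw [← natCast_zsmul, ← natCast_zsmul, Nat.cast_sub hr, Nat.cast_one]
    abel

open Polynomial in
theorem commute_coeff (hX : Cyc.IsSetup X δ) {r s : ℕ} {E F : X.Modules} (hE : FlatMod.IsFinLocFreeOfRank r E)
    (hF : FlatMod.IsFinLocFreeOfRank s F) (i j : ℕ) :
    Commute ((cPoly δ E r).coeff i) ((cPoly δ F s).coeff j) := by
  by_cases hi : i ≤ r
  · by_cases hj : j ≤ s
    · have e1 := coeff_cPoly (δ := δ) E r ⟨i, Nat.lt_succ_of_le hi⟩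
      have e2 := coeff_cPoly (δ := δ) F s ⟨j, Nat.lt_succ_of_le hj⟩
      simp only at e1 e2
      rw [e1, e2]
      exact chern_comm hX hE hF _ _
    · rw [coeff_cPoly_of_lt F (by omega)]
      exact Commute.zero_right _
  · rw [coeff_cPoly_of_lt E (by omega)]
    exact Commute.zero_left _

open Polynomial in
/-- `c₂(E ⊗ F)`. -/
theorem coeff_two_tensor : ∀ (r : ℕ) {X : Scheme.{u}} {δ : X → ℤ}, Cyc.IsSetup X δ → ∀ {s : ℕ} {E F : X.Modules},
    FlatMod.IsFinLocFreeOfRank r E → FlatMod.IsFinLocFreeOfRank s F →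
      (cPoly δ (CohB1.tensorMod E F) (r * s)).coeff 2 = (r : ℤ) • (cPoly δ F s).coeff 2 +
        (s : ℤ) • (cPoly δ E r).coeff 2 + ((r.choose 2 : ℕ) : ℤ) • ((cPoly δ F s).coeff 1 * (cPoly δ F s).coeff 1) +
        ((r : ℤ) * s - 1) • ((cPoly δ E r).coeff 1 * (cPoly δ F s).coeff 1) +
        ((s.choose 2 : ℕ) : ℤ) • ((cPoly δ E r).coeff 1 * (cPoly δ E r).coeff 1)
  | 0, X, δ, hX, s, E, F, hE, hF => by
    rw [coeff_cPoly_of_lt _ (show 0 * s < 2 by simp), coeff_cPoly_of_lt E (show 0 < 1 by omega),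
      coeff_cPoly_of_lt E (show 0 < 2 by omega)]
    simp
  | r + 1, X, δ, hX, s, E, F, hE, hF => by
    haveI := hX.1
    obtain ⟨P, p, δP, K, M, c, b, hcb, hPs, hflat, hlft, hrd, hδ, hinj, hK, hM, hex⟩ := step hX hE
    haveI := hPs.1
    have hE' := Groth.Agent.VarietyLib.isFinLocFreeOfRank_pullback p hE
    have hF' := Groth.Agent.VarietyLib.isFinLocFreeOfRank_pullback p hF
    have hT := isFinLocFreeOfRank_tensor hE hF
    have hT' := Groth.Agent.VarietyLib.isFinLocFreeOfRank_pullback p hT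
    have hM1 := PicLib.isFinLocFreeOfRank_one hM
    have hMF : FlatMod.IsFinLocFreeOfRank s (CohB1.tensorMod M ((Scheme.Modules.pullback p).obj F)) := by
      simpa using isFinLocFreeOfRank_tensor hM1 hF'
    obtain ⟨c', b', hcb', hex'⟩ := exists_shortExact_tensor hex hF'
    have hW := whitney r hPs (n := r + 1) (c := 1) rfl hK hE' hM1 hex
    have e1 := congrArg (coeff · 1) hW
    have e0 := congrArg (coeff · 2) hW
    have e2 := congrArg (coeff · 2) (whitney (r * s) hPs (n := (r + 1) * s) (c := s) (by ring)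
      (isFinLocFreeOfRank_tensor hK hF') (isFinLocFreeOfRank_tensor hE' hF') hMF hex')
    rw [cPoly_iso hPs (rank_tensor_line hF' hM) hMF (AmpleLib.tensorComm M ((Scheme.Modules.pullback p).obj F)),
      ← cPoly_iso hPs (isFinLocFreeOfRank_tensor hE' hF') hT' (DCat.PullTensor.pullTensorIso p E F)] at e2
    rw [coeff_mul_one, coeff_cPoly_zero hPs hK, coeff_cPoly_zero hPs hM1, one_mul, mul_one, cPoly_line hPs hM hM1,
      coeff_line_one] at e1
    rw [coeff_mul_two, coeff_cPoly_zero hPs hK, coeff_cPoly_zero hPs hM1, one_mul, mul_one, cPoly_line hPs hM hM1,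
      coeff_line_one, coeff_line_two, zero_add] at e0
    rw [coeff_mul_two, coeff_cPoly_zero hPs (isFinLocFreeOfRank_tensor hK hF'), one_mul,
      coeff_cPoly_zero hPs (rank_tensor_line hF' hM), mul_one, coeff_one_tensor_line hPs hF' hM,
      coeff_two_tensor_line hPs hF' hM, coeff_one_tensor r hPs hK hF', coeff_two_tensor r hPs hK hF'] at e2
    simp only [← natCast_zsmul] at e2
    rw [two_tensor_algebra r s (commute_coeff hPs hF' hK 1 1) (commute_c1_coeff hPs hK hM 1)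
      (commute_c1_coeff hPs hF' hM 1), ← e0, ← e1] at e2
    refine DFunLike.ext _ _ fun x => hinj ?_
    rw [inter_cPoly p hPs hX r hrd hδ hT 2 x, e2]
    set f := cPoly δP ((Scheme.Modules.pullback p).obj F) s
    set e := cPoly δP ((Scheme.Modules.pullback p).obj E) (r + 1)
    set φ := pull p δP δ (r : ℤ)
    have iF := fun n y => inter_cPoly p hPs hX r hrd hδ hF n y
    have iE := fun n y => inter_cPoly p hPs hX r hrd hδ hE n y
    show ((r + 1 : ℕ) : ℤ) • f.coeff 2 (φ x) + (s : ℤ) • e.coeff 2 (φ x) +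
        (((r + 1).choose 2 : ℕ) : ℤ) • f.coeff 1 (f.coeff 1 (φ x)) +
        (((r + 1 : ℕ) : ℤ) * s - 1) • e.coeff 1 (f.coeff 1 (φ x)) +
        ((s.choose 2 : ℕ) : ℤ) • e.coeff 1 (e.coeff 1 (φ x)) =
      φ (((r + 1 : ℕ) : ℤ) • (cPoly δ F s).coeff 2 x + (s : ℤ) • (cPoly δ E (r + 1)).coeff 2 x +
        (((r + 1).choose 2 : ℕ) : ℤ) • (cPoly δ F s).coeff 1 ((cPoly δ F s).coeff 1 x) +
        (((r + 1 : ℕ) : ℤ) * s - 1) • (cPoly δ E (r + 1)).coeff 1 ((cPoly δ F s).coeff 1 x) +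
        ((s.choose 2 : ℕ) : ℤ) • (cPoly δ E (r + 1)).coeff 1 ((cPoly δ E (r + 1)).coeff 1 x))
    simp only [map_add, map_zsmul, iF, iE, f, e, φ]

end Groth.Agent.CycLib28.PB.Ops
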