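import Groth.Agent.CycLib28.PB.Ops.Whitney

/-!
# The Chern polynomial of a twist: algebra
-/

set_option autoImplicit false
set_option linter.unusedSectionVars false

open Polynomial

namespace Groth.Agent.CycLib28.PB.Ops

section ring

variable {R : Type*} [Ring R]

/-- The twist of a Chern polynomial of rank `r` by a line with first Chern class `ℓ`. -/
noncomputable def tw (r : ℕ) (ℓ : R) (f : R[X]) : R[X] :=
  ∑ i ∈ Finset.range (r + 1), C (f.coeff i) * X ^ i * (1 + C ℓ * X) ^ (r - i)

theorem tw_zero_one (ℓ : R) : tw 0 ℓ (1 : R[X]) = 1 := by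
  simp [tw]

theorem coeff_one_add_pow (ℓ : R) : ∀ k j : ℕ, ((1 + C ℓ * X) ^ k).coeff j = k.choose j • ℓ ^ j
  | 0, 0 => by simp
  | 0, j + 1 => by simp [coeff_one]
  | k + 1, 0 => by
    rw [pow_succ', add_mul, one_mul, coeff_add, mul_assoc, coeff_C_mul, coeff_one_add_pow ℓ k 0]
    simp
  | k + 1, j + 1 => by
    rw [pow_succ', add_mul, one_mul, coeff_add, mul_assoc, coeff_C_mul, coeff_X_mul, coeff_one_add_pow ℓ k j,
      coeff_one_add_pow ℓ k (j + 1), mul_smul_comm, ← pow_succ', Nat.choose_succ_succ', add_smul, add_comm]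

theorem coeff_tw (r : ℕ) (ℓ : R) (f : R[X]) (n : ℕ) : (tw r ℓ f).coeff n =
    ∑ i ∈ Finset.range (r + 1), if i ≤ n then (r - i).choose (n - i) • (f.coeff i * ℓ ^ (n - i)) else 0 := by
  rw [tw, finsetSum_coeff]
  refine Finset.sum_congr rfl fun i _ => ?_
  rw [mul_assoc, coeff_C_mul, coeff_X_pow_mul']
  split_ifs
  · rw [coeff_one_add_pow, mul_smul_comm]
  · rw [mul_zero]

theorem coeff_tw_of_le {r : ℕ} (ℓ : R) {f : R[X]} (hf : ∀ i, r < i → f.coeff i = 0) (n : ℕ) : (tw r ℓ f).coeff n =
    ∑ i ∈ Finset.range (n + 1), (r - i).choose (n - i) • (f.coeff i * ℓ ^ (n - i)) := by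
  rw [coeff_tw, ← Finset.sum_filter]
  refine Finset.sum_subset (fun i hi => ?_) fun i hi hni => ?_
  · simp only [Finset.mem_filter] at hi
    exact Finset.mem_range.2 (by omega)
  · rw [hf i, zero_mul, smul_zero]
    simp only [Finset.mem_filter, Finset.mem_range, not_and] at hni hi
    by_contra h
    exact hni (by omega) (by omega)

theorem tw_mul_line {r : ℕ} {f : R[X]} (hf : ∀ i, r < i → f.coeff i = 0) {a ℓ : R} (h : Commute a ℓ) :
    tw (r + 1) ℓ (f * (1 + C a * X)) = tw r ℓ f * (1 + C (a + ℓ) * X) := by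
  set B : R[X] := 1 + C ℓ * X with hB
  have hcomm : Commute (C a * X) B := by
    have h1 : Commute (C a) (C ℓ) := h.map C
    refine (Commute.one_right _).add_right ?_
    exact ((h1.mul_right (commute_X (C a)).symm).mul_left ((commute_X (C ℓ)).mul_right (Commute.refl X)))
  have hg : ∀ i, (f * (1 + C a * X)).coeff (i + 1) = f.coeff (i + 1) + f.coeff i * a := fun i => by
    rw [mul_add, mul_one, coeff_add, ← mul_assoc, coeff_mul_X, coeff_mul_C]
  have hg0 : (f * (1 + C a * X)).coeff 0 = f.coeff 0 := by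
    rw [mul_add, mul_one, coeff_add, ← mul_assoc, coeff_mul_X_zero, add_zero]
  have e1 : (1 : R[X]) + C (a + ℓ) * X = B + C a * X := by rw [hB, map_add, add_mul]; abel
  have e2 : ∑ i ∈ Finset.range (r + 2), C (f.coeff i) * X ^ i * B ^ (r + 1 - i) = tw r ℓ f * B := by
    rw [Finset.sum_range_succ, hf (r + 1) (Nat.lt_succ_self r), map_zero, zero_mul, zero_mul, add_zero, tw,
      Finset.sum_mul]
    refine Finset.sum_congr rfl fun i hi => ?_
    rw [Finset.mem_range] at hi
    rw [show r + 1 - i = r - i + 1 by omega, pow_succ]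
    simp only [mul_assoc, hB]
  have e3 : ∑ i ∈ Finset.range (r + 1), C (f.coeff i * a) * X ^ (i + 1) * B ^ (r + 1 - (i + 1)) =
      tw r ℓ f * (C a * X) := by
    rw [tw, Finset.sum_mul]
    refine Finset.sum_congr rfl fun i _ => ?_
    rw [Nat.add_sub_add_right, map_mul, pow_succ', ← hB]
    have e : C a * (X * X ^ i) * B ^ (r - i) = X ^ i * B ^ (r - i) * (C a * X) := by
      rw [mul_assoc (X ^ i), ← (hcomm.pow_right (r - i)).eq, ← mul_assoc (X ^ i),
        ← mul_assoc (C a) X, ((commute_X_pow (C a * X) i)).eq]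
    simp only [mul_assoc] at e ⊢
    rw [e]
  rw [e1, mul_add (tw r ℓ f), ← e2, ← e3, tw, ← hB, show r + 2 = r + 1 + 1 from rfl,
    Finset.sum_range_succ' _ (r + 1), Finset.sum_range_succ' _ (r + 1)]
  simp only [hg, hg0, map_add, add_mul, Finset.sum_add_distrib]
  abel

end ring

section inter

variable {A B : Type*} [AddCommGroup A] [AddCommGroup B] {φ : A →+ B}

theorem Inter.add {f f' : Polynomial (AddMonoid.End A)} {g g' : Polynomial (AddMonoid.End B)}
    (h : Inter φ f g) (h' : Inter φ f' g') : Inter φ (f + f') (g + g') := fun n x => by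
  rw [coeff_add, coeff_add]
  show φ (f.coeff n x + f'.coeff n x) = g.coeff n (φ x) + g'.coeff n (φ x)
  rw [map_add, h n x, h' n x]

theorem Inter.zero : Inter φ (0 : Polynomial (AddMonoid.End A)) (0 : Polynomial (AddMonoid.End B)) := fun n x => by
  rw [coeff_zero, coeff_zero]
  exact map_zero φ

theorem Inter.one : Inter φ (1 : Polynomial (AddMonoid.End A)) (1 : Polynomial (AddMonoid.End B)) := fun n x => by
  rw [coeff_one, coeff_one]
  split_ifs
  · rfl
  · exact map_zero φ

theorem Inter.const {a : AddMonoid.End A} {b : AddMonoid.End B} (h : ∀ x, φ (a x) = b (φ x)) :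
    Inter φ (C a) (C b) := fun n x => by
  rw [coeff_C, coeff_C]
  split_ifs
  · exact h x
  · exact map_zero φ

theorem Inter.var : Inter φ (X : Polynomial (AddMonoid.End A)) (X : Polynomial (AddMonoid.End B)) := fun n x => by
  rw [coeff_X, coeff_X]
  split_ifs
  · rfl
  · exact map_zero φ

theorem Inter.pow {f : Polynomial (AddMonoid.End A)} {g : Polynomial (AddMonoid.End B)} (h : Inter φ f g) :
    ∀ n : ℕ, Inter φ (f ^ n) (g ^ n)
  | 0 => by rw [pow_zero, pow_zero]; exact Inter.one
  | n + 1 => by rw [pow_succ, pow_succ]; exact (h.pow n).mul h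

theorem Inter.sum {ι : Type*} (s : Finset ι) {f : ι → Polynomial (AddMonoid.End A)}
    {g : ι → Polynomial (AddMonoid.End B)} (h : ∀ i ∈ s, Inter φ (f i) (g i)) :
    Inter φ (∑ i ∈ s, f i) (∑ i ∈ s, g i) := by
  induction s using Finset.cons_induction with
  | empty => rw [Finset.sum_empty, Finset.sum_empty]; exact Inter.zero
  | cons j s hj ih =>
    rw [Finset.sum_cons, Finset.sum_cons]
    exact (h j (Finset.mem_cons_self j s)).add (ih fun i hi => h i (Finset.mem_cons_of_mem hi))

theorem Inter.tw {f : Polynomial (AddMonoid.End A)} {g : Polynomial (AddMonoid.End B)} (h : Inter φ f g)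
    {a : AddMonoid.End A} {b : AddMonoid.End B} (hab : ∀ x, φ (a x) = b (φ x)) (r : ℕ) :
    Inter φ (Ops.tw r a f) (Ops.tw r b g) :=
  Inter.sum _ fun i _ => ((Inter.const (h i)).mul (Inter.var.pow i)).mul
    ((Inter.one.add ((Inter.const hab).mul Inter.var)).pow _)

end inter

end Groth.Agent.CycLib28.PB.Ops
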