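import Groth.Agent.CycLib28.PB.Ops.Laws
import Groth.Agent.CycLib28.PB.Ops.LocFree

/-!
# The Whitney formula
-/

set_option autoImplicit false
set_option linter.unusedSectionVars false
set_option linter.style.haveILetI false
set_option backward.isDefEq.respectTransparency.types false

universe u

open AlgebraicGeometry CategoryTheory CategoryTheory.Limits
open Groth.Agent.KRRPBLib Groth.Agent.Coherent Groth.Agent.PicLib Groth.Agent.CycLim28

namespace Groth.Agent.CycLib28.PB.Ops

section inter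

variable {A B : Type*} [AddCommGroup A] [AddCommGroup B] (φ : A →+ B)

/-- Coefficientwise intertwining of polynomials of endomorphisms. -/
def Inter (f : Polynomial (AddMonoid.End A)) (g : Polynomial (AddMonoid.End B)) : Prop :=
  ∀ (n : ℕ) (x : A), φ (f.coeff n x) = g.coeff n (φ x)

variable {φ}

theorem Inter.mul {f f' : Polynomial (AddMonoid.End A)} {g g' : Polynomial (AddMonoid.End B)}
    (h : Inter φ f g) (h' : Inter φ f' g') : Inter φ (f * f') (g * g') := fun n x => by
  rw [Polynomial.coeff_mul, Polynomial.coeff_mul]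
  erw [AddMonoidHom.finsetSum_apply, AddMonoidHom.finsetSum_apply, map_sum]
  exact Finset.sum_congr rfl fun ij _ => (h ij.1 _).trans (congrArg (g.coeff ij.1) (h' ij.2 x))

theorem Inter.eq {f f' : Polynomial (AddMonoid.End A)} {g : Polynomial (AddMonoid.End B)}
    (hφ : Function.Injective φ) (h : Inter φ f g) (h' : Inter φ f' g) : f = f' :=
  Polynomial.ext fun n => AddMonoidHom.ext fun x => hφ ((h n x).trans (h' n x).symm)

end inter

variable {X Y : Scheme.{u}} {δ : X → ℤ} {δY : Y → ℤ}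

theorem inter_cPoly (f : Y ⟶ X) [Flat f] [LocallyOfFiniteType f] (hY : Cyc.IsSetup Y δY) (hX : Cyc.IsSetup X δ)
    (c : ℕ) (hc : Cyc.HasRelDim f c) (hf : Cyc.DeltaCompat f δY δ) {r : ℕ} {E : X.Modules}
    (hE : FlatMod.IsFinLocFreeOfRank r E) :
    Inter (pull f δY δ c) (cPoly δ E r) (cPoly δY ((Scheme.Modules.pullback f).obj E) r) := fun n x => by
  by_cases h : n ≤ r
  · obtain ⟨j, rfl⟩ : ∃ j : Fin (r + 1), (j : ℕ) = n := ⟨⟨n, Nat.lt_succ_of_le h⟩, rfl⟩
    rw [coeff_cPoly, coeff_cPoly]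
    exact pull_chern f hY hX c hc hf hE j x
  · rw [coeff_cPoly_of_lt E (by omega), coeff_cPoly_of_lt _ (by omega)]
    exact map_zero _

theorem isZero_of_rank_zero {E : X.Modules} (hE : FlatMod.IsFinLocFreeOfRank 0 E) : IsZero E := by
  rw [IsZero.iff_id_eq_zero]
  refine RelVALib.hom_ext_affine _ _ fun V hV x => ?_
  refine AmpleLib.sec_ext E _ _ fun y hy => ?_
  obtain ⟨U, hyU, ⟨e⟩⟩ := hE y
  obtain ⟨W, hW, hyW, hWV⟩ := TopologicalSpace.Opens.isBasis_iff_nbhd.1 X.isBasis_affineOpens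
    (show y ∈ V ⊓ U from ⟨hy, hyU⟩)
  obtain ⟨b⟩ := Props12.exists_basis_sections e (hWV.trans inf_le_right)
  haveI : Subsingleton Γ(E, W) := b.repr.toEquiv.subsingleton
  exact ⟨W, hWV.trans inf_le_left, hyW, Subsingleton.elim _ _⟩

theorem cPoly_rank_zero (hX : Cyc.IsSetup X δ) {E : X.Modules} (hE : FlatMod.IsFinLocFreeOfRank 0 E) :
    cPoly δ E 0 = 1 := by
  rw [cPoly, Fin.sum_univ_one, chern_zero hX hE]
  exact Polynomial.monomial_zero_one

/-- The Whitney formula. -/
theorem whitney : ∀ (a : ℕ) {X : Scheme.{u}} {δ : X → ℤ}, Cyc.IsSetup X δ → ∀ {c n : ℕ}, n = a + c →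
    ∀ {E₁ E₂ E₃ : X.Modules}, FlatMod.IsFinLocFreeOfRank a E₁ → FlatMod.IsFinLocFreeOfRank n E₂ →
      FlatMod.IsFinLocFreeOfRank c E₃ → ∀ {f : E₁ ⟶ E₂} {g : E₂ ⟶ E₃} {hfg : f ≫ g = 0},
        (ShortComplex.mk f g hfg).ShortExact → cPoly δ E₂ n = cPoly δ E₁ a * cPoly δ E₃ c
  | 0, X, δ, hX, c, n, hn, E₁, E₂, E₃, h1, h2, h3, f, g, hfg, hex => by
    obtain rfl : n = c := by omega
    haveI : Mono g := hex.exact.mono_g ((isZero_of_rank_zero h1).eq_of_src _ _)
    haveI : Epi g := hex.epi_g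
    haveI : IsIso g := isIso_of_mono_of_epi g
    rw [cPoly_rank_zero hX h1, one_mul]
    exact cPoly_iso hX h3 h2 (asIso g)
  | a + 1, X, δ, hX, c, n, hn, E₁, E₂, E₃, h1, h2, h3, f, g, hfg, hex => by
    haveI := hX.1
    haveI := isQCoh_of_rank h1
    obtain ⟨P, p, O1, q, δP, hP, hp, hPs, hδ⟩ := exists_projBundle_setup hX h1
    haveI := hPs.1
    haveI : Flat p := flat_of_isProjBundle h1 hP
    haveI := hP.epi
    have hrd := hasRelDim_bundle h1 hP hPs.2.2 hδ
    have hinv := isInvertible_of_rankOne hP.invertible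
    have h1' := Groth.Agent.VarietyLib.isFinLocFreeOfRank_pullback p h1
    have h2' := Groth.Agent.VarietyLib.isFinLocFreeOfRank_pullback p h2
    have h3' := Groth.Agent.VarietyLib.isFinLocFreeOfRank_pullback p h3
    have hK := isFinLocFreeOfRank_kernel_line h1' hinv q
    have hk := H8Lim.shortExact_kernel q
    have hex' := shortExact_pullback p hex
    obtain ⟨G, pr, u, v, hh, huv, hex1, hex2⟩ := exists_quotient_extension hk hex'
    have hG : FlatMod.IsFinLocFreeOfRank (c + 1) G := by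
      rw [add_comm]
      exact isFinLocFreeOfRank_extension hex2 hP.invertible h3'
    have e1 := whitney a hPs (n := n) (c := c + 1) (by omega) hK h2' hG hex1
    have e2 := cPoly_sub hPs hinv hG h3' hex2
    have e3 := whitney a hPs (n := a + 1) (c := 1) rfl hK h1' hP.invertible hk
    rw [e2, ← mul_assoc, ← cPoly_line hPs hinv hP.invertible, ← e3] at e1
    refine Inter.eq (pull_injective hX h1 hP hPs hδ) ?_
      ((inter_cPoly p hPs hX a hrd hδ h1).mul (inter_cPoly p hPs hX a hrd hδ h3))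
    rw [← e1]
    exact inter_cPoly p hPs hX a hrd hδ h2

end Groth.Agent.CycLib28.PB.Ops
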